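import Cfsg.Agent.Lib.Grp.M22Local.Data
import Cfsg.Agent.Lib.Block.FischerTypes.U6Code.Checks

/-! Facts on the numbered points used for the local subgroups of primes five and seven. -/

set_option autoImplicit false
set_option maxRecDepth 100000
set_option maxHeartbeats 4000000

namespace Cfsg.Agent.Grp.M22Local

open Cfsg.Agent.Block.FischerTypes.U6Code

/-- A word fixes the points of `B`. -/
def fixB (B w : List ℕ) : Bool := B.all fun b => Nat.beq (act w b) b

/-- Strictly increasing. -/
def incr : List ℕ → Bool
  | [] => true
  | [_] => true
  | x :: y :: l => Nat.blt x y && incr (y :: l)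

/-- Words fixing `B` moving `x` to pairwise different points. -/
def chkStage (B : List ℕ) (x : ℕ) (tr : List (ℕ × List ℕ)) : Bool :=
  isPt x && incr (tr.map Prod.fst) &&
    tr.all fun e => isPt e.1 && e.2.all isPt && fixB B e.2 && Nat.beq (act e.2 x) e.1

/-- A chain of transversals. -/
def chkChain : List ℕ → List (ℕ × List (ℕ × List ℕ)) → Bool
  | _, [] => true
  | B, s :: rest => chkStage B s.1 s.2 && chkChain (B ++ [s.1]) rest

/-- The chain below two apart points. -/
def chain5 : List (ℕ × List (ℕ × List ℕ)) := (b0, tr0) :: (c0, trApart) :: st5

/-- The chain along an orbit of `w7`. -/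
def chain7 : List (ℕ × List (ℕ × List ℕ)) := (b0, tr0) :: (b1, tr1) :: st7

/-- Repeat a word. -/
def rep : ℕ → List ℕ → List ℕ
  | 0, _ => []
  | n + 1, w => w ++ rep n w

/-- The word of four successive points of an orbit of `w5`, six times. -/
def pathWord (u : ℕ) : List ℕ :=
  rep 6 [act w5 (act w5 (act w5 u)), act w5 (act w5 u), act w5 u, u]

/-- The points of the base below two apart points. -/
def base5 : List ℕ := chain5.map Prod.fst

/-- The points of the base along an orbit of `w7`. -/
def base7 : List ℕ := chain7.map Prod.fst

theorem chain5_ok : chkChain [] chain5 = true := by decide +kernel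

theorem chain7_ok : chkChain [] chain7 = true := by decide +kernel

theorem chain5_mult : (chain5.map fun s => s.2.length).prod = 9196830720 := by decide +kernel

theorem chain7_mult : (chain7.map fun s => s.2.length).prod = 9196830720 := by decide +kernel

theorem five_fixed : (ptList.all fun p => !(Nat.beq (act w5 p) p) || Nat.beq p b0 || Nat.beq p c0 || Nat.beq p 6) =
    true := by decide +kernel

theorem five_pts : (isPt b0 && isPt c0 && isPt 6 && w5.all isPt && n5.all isPt && o5.all isPt &&
    Nat.beq (refl c0 b0) 6 && !(adj b0 c0) && fixB [b0, c0, 6] w5 && fixB [b0, c0] n5) = true := by decide +kernel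

theorem five_class : (ptList.all fun p => !(adj b0 p && adj c0 p && !(adj p (act w5 p)) &&
    adj p (act w5 (act w5 p))) || o5.contains p) = true := by decide +kernel

theorem five_pow : (base5.all fun q => Nat.beq (act (rep 5 w5) q) q) = true := by decide +kernel

theorem five_norm : (base5.all fun q => Nat.beq (act n5 (act w5 q)) (act (rep 2 w5) (act n5 q))) = true := by
  decide +kernel

theorem five_path : (ptList.all fun u => !(adj b0 u) || Nat.beq u b0 || adj c0 u ||
    base5.any fun q => !(Nat.beq (act (pathWord u) q) (act w5 q))) = true := by decide +kernel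

theorem seven_fixed : (ptList.all fun p => !(Nat.beq (act w7 p) p)) = true := by decide +kernel

theorem seven_pts : (w7.all isPt && n7.all isPt && o7.all isPt) = true := by decide +kernel

theorem seven_class : (ptList.filter fun p => adj p (act w7 p) && !(adj p (act (rep 2 w7) p)) &&
    adj p (act (rep 3 w7) p)).length = 21 := by decide +kernel

theorem seven_base : (adj b0 (act w7 b0) && !(adj b0 (act (rep 2 w7) b0)) && adj b0 (act (rep 3 w7) b0)) = true := by
  decide +kernel

theorem seven_pow : (base7.all fun q => Nat.beq (act (rep 7 w7) q) q) = true := by decide +kernel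

theorem seven_norm : (base7.all fun q => Nat.beq (act n7 (act w7 q)) (act (rep 3 w7) (act n7 q))) = true := by
  decide +kernel

theorem seven_orbit : (List.range 6).all (fun i => Nat.beq (act (rep i w7) b0) (base7.getD i 0)) = true := by
  decide +kernel

theorem five_orbit : (List.range 5).all (fun i => Nat.beq (act (rep i w5) 15) (o5.getD i 0)) = true := by
  decide +kernel

theorem five_base : base5 = [b0, c0, 15, 23, 48, 2079] ∧ o5 = [15, 23, 48, 2079, 567] ∧ w5 = [2079, 48, 23, 15] := by
  decide +kernel

end Cfsg.Agent.Grp.M22Local
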