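import Mathlib

/-! Counting with conjugation orbits and with subgroups of prime order. -/

set_option autoImplicit false
set_option linter.style.haveILetI false
set_option linter.unusedSectionVars false

namespace Cfsg.Agent.Grp.M22Local

variable {G : Type*} [Group G] [Finite G]

/-- The conjugates of `g` under `H`. -/
def orb (H : Subgroup G) (g : G) : Set G := {y | ∃ h ∈ H, h * g * h⁻¹ = y}

/-- The stabiliser of `g` in `H`. -/
abbrev fix (H : Subgroup G) (g : G) : Subgroup G := H ⊓ Subgroup.centralizer ({g} : Set G)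

omit [Finite G] in
theorem mem_fix {H : Subgroup G} {g h : G} : h ∈ fix H g ↔ h ∈ H ∧ Commute h g := by
  rw [Subgroup.mem_inf, Subgroup.mem_centralizer_singleton_iff]
  exact Iff.rfl

theorem card_orb (H : Subgroup G) (g : G) : (orb H g).ncard * Nat.card ↥(fix H g) = Nat.card ↥H := by
  letI : MulAction ↥H G := MulAction.compHom G ((ConjAct.toConjAct (G := G)).toMonoidHom.comp H.subtype)
  have hsm : ∀ (h : ↥H) (y : G), h • y = (h : G) * y * (h : G)⁻¹ := fun h y => rfl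
  have horb : MulAction.orbit ↥H g = orb H g := by
    ext y
    constructor
    · rintro ⟨h, rfl⟩
      exact ⟨h, h.2, (hsm h g).symm⟩
    · rintro ⟨h, hh, rfl⟩
      exact ⟨⟨h, hh⟩, hsm ⟨h, hh⟩ g⟩
  have hst : MulAction.stabilizer ↥H g = (fix H g).subgroupOf H := by
    ext h
    rw [MulAction.mem_stabilizer_iff, hsm, Subgroup.mem_subgroupOf, mem_fix, mul_inv_eq_iff_eq_mul]
    exact ⟨fun e => ⟨h.2, e⟩, fun e => e.2⟩
  have := Subgroup.index_mul_card (MulAction.stabilizer ↥H g)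
  rw [MulAction.index_stabilizer, horb, hst,
    Nat.card_congr (Subgroup.subgroupOfEquivOfLe (inf_le_left : fix H g ≤ H)).toEquiv] at this
  exact this

theorem card_le_mul (H : Subgroup G) (g : G) {S : Set G} (hS : ∀ h ∈ H, h * g * h⁻¹ ∈ S) :
    Nat.card ↥H ≤ S.ncard * Nat.card ↥(fix H g) := by
  rw [← card_orb H g]
  refine Nat.mul_le_mul_right _ (Set.ncard_le_ncard ?_ (Set.toFinite S))
  rintro y ⟨h, hh, rfl⟩
  exact hS h hh

theorem mul_le_card (H : Subgroup G) (g : G) {S : Set G} (hS : ∀ y ∈ S, ∃ h ∈ H, h * g * h⁻¹ = y) :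
    S.ncard * Nat.card ↥(fix H g) ≤ Nat.card ↥H := by
  rw [← card_orb H g]
  exact Nat.mul_le_mul_right _ (Set.ncard_le_ncard (fun y hy => hS y hy) (Set.toFinite _))

theorem orb_ncard_dvd (H : Subgroup G) (g : G) : (orb H g).ncard ∣ Nat.card ↥H :=
  ⟨_, (card_orb H g).symm⟩

theorem eq_zpowers {p : ℕ} [Fact p.Prime] {X : Subgroup G} (hX : Nat.card ↥X = p) {x : G} (hx : x ∈ X)
    (h1 : x ≠ 1) : X = Subgroup.zpowers x := by
  refine (Subgroup.eq_of_le_of_card_ge (Subgroup.zpowers_le.mpr hx) ?_).symm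
  rw [hX, Nat.card_zpowers]
  have hd := orderOf_dvd_natCard (⟨x, hx⟩ : ↥X)
  rw [hX, Subgroup.orderOf_mk] at hd
  rcases (Fact.out : p.Prime).eq_one_or_self_of_dvd _ hd with e | e
  · exact absurd (orderOf_eq_one_iff.mp e) h1
  · exact e.ge

omit [Finite G] in
theorem exists_gen {p : ℕ} [Fact p.Prime] {X : Subgroup G} (hX : Nat.card ↥X = p) :
    ∃ x, x ∈ X ∧ orderOf x = p := by
  haveI : Finite ↥X := Nat.finite_of_card_ne_zero (by rw [hX]; exact (Fact.out : p.Prime).ne_zero)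
  obtain ⟨y, hy⟩ := exists_prime_orderOf_dvd_card' (G := ↥X) p (by rw [hX])
  exact ⟨y, y.2, by rw [Subgroup.orderOf_coe]; exact hy⟩

omit [Finite G] in
theorem map_zpowers (g x : G) :
    (Subgroup.zpowers x).map (MulAut.conj g).toMonoidHom = Subgroup.zpowers (g * x * g⁻¹) := by
  rw [MonoidHom.map_zpowers]; rfl

theorem mem_normalizer_zpowers {g x : G} (h : g * x * g⁻¹ ∈ Subgroup.zpowers x) :
    g ∈ Subgroup.normalizer ((Subgroup.zpowers x : Subgroup G) : Set G) := by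
  have e : (Subgroup.zpowers x).map (MulAut.conj g).toMonoidHom = Subgroup.zpowers x := by
    rw [map_zpowers]
    refine Subgroup.eq_of_le_of_card_ge (Subgroup.zpowers_le.mpr h) (le_of_eq ?_)
    rw [Nat.card_zpowers, Nat.card_zpowers]
    exact (MulEquiv.orderOf_eq (MulAut.conj g) x).symm
  refine Subgroup.mem_normalizer_iff.mpr fun y => ⟨fun hy => e ▸ ⟨y, hy, rfl⟩, fun hy => ?_⟩
  obtain ⟨z, hz, ez⟩ := (SetLike.ext_iff.mp e (g * y * g⁻¹)).mpr hy
  have : z = y := mul_left_cancel (mul_right_cancel (ez : g * z * g⁻¹ = g * y * g⁻¹))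
  exact this ▸ hz

omit [Finite G] in
theorem conj_mem_of_normalizer {g x : G} {X : Subgroup G} (hg : g ∈ Subgroup.normalizer (X : Set G))
    (hx : x ∈ X) : g * x * g⁻¹ ∈ X :=
  (Subgroup.mem_normalizer_iff.mp hg x).mp hx

/-- Subgroups of order `p` are conjugate in a group whose order `p²` does not divide. -/
theorem conj_exact {p : ℕ} [Fact p.Prime] (H : Subgroup G) (hH : ¬ p ^ 2 ∣ Nat.card ↥H) {X Y : Subgroup G}
    (hX : Nat.card ↥X = p) (hY : Nat.card ↥Y = p) (hXH : X ≤ H) (hYH : Y ≤ H) :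
    ∃ h ∈ H, X.map (MulAut.conj h).toMonoidHom = Y := by
  have hp : p ∣ Nat.card ↥H := hX ▸ Subgroup.card_dvd_of_le hXH
  have hf : (Nat.card ↥H).factorization p = 1 := by
    have h1 := (Fact.out : p.Prime).factorization_pos_of_dvd Nat.card_pos.ne' hp
    have h2 : ¬ 2 ≤ (Nat.card ↥H).factorization p := fun k =>
      hH ((Fact.out : p.Prime).pow_dvd_iff_le_factorization Nat.card_pos.ne' |>.mpr k)
    omega
  let P : Sylow p ↥H := Sylow.ofCard (X.subgroupOf H) (by
    rw [Nat.card_congr (Subgroup.subgroupOfEquivOfLe hXH).toEquiv, hX, hf, pow_one])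
  let Q : Sylow p ↥H := Sylow.ofCard (Y.subgroupOf H) (by
    rw [Nat.card_congr (Subgroup.subgroupOfEquivOfLe hYH).toEquiv, hY, hf, pow_one])
  obtain ⟨h, hh⟩ := MulAction.exists_smul_eq ↥H P Q
  refine ⟨h, h.2, Subgroup.eq_of_le_of_card_ge ?_ (le_of_eq ?_)⟩
  · rintro y ⟨x, hx, rfl⟩
    have hm : h * ⟨x, hXH hx⟩ * h⁻¹ ∈ (Q : Subgroup ↥H) := by
      rw [← hh, Sylow.coe_subgroup_smul]
      exact Subgroup.smul_mem_pointwise_smul (⟨x, hXH hx⟩ : ↥H) (MulAut.conj h) _
        (Subgroup.mem_subgroupOf.mpr hx : (⟨x, hXH hx⟩ : ↥H) ∈ X.subgroupOf H)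
    exact Subgroup.mem_subgroupOf.mp hm
  · rw [hY, Nat.card_congr ((X.equivMapOfInjective _ (MulAut.conj (h : G)).injective).toEquiv).symm, hX]

/-- The congruence for the number of conjugates of a subgroup of order `p`. -/
theorem index_modEq {p : ℕ} [Fact p.Prime] (H : Subgroup G) (hH : ¬ p ^ 2 ∣ Nat.card ↥H) {X : Subgroup G}
    (hX : Nat.card ↥X = p) (hXH : X ≤ H) :
    ∃ n, n ≡ 1 [MOD p] ∧ n * Nat.card ↥(H ⊓ Subgroup.normalizer (X : Set G)) = Nat.card ↥H := by
  have hp : p ∣ Nat.card ↥H := hX ▸ Subgroup.card_dvd_of_le hXH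
  have hf : (Nat.card ↥H).factorization p = 1 := by
    have h1 := (Fact.out : p.Prime).factorization_pos_of_dvd Nat.card_pos.ne' hp
    have h2 : ¬ 2 ≤ (Nat.card ↥H).factorization p := fun k =>
      hH ((Fact.out : p.Prime).pow_dvd_iff_le_factorization Nat.card_pos.ne' |>.mpr k)
    omega
  let P : Sylow p ↥H := Sylow.ofCard (X.subgroupOf H) (by
    rw [Nat.card_congr (Subgroup.subgroupOfEquivOfLe hXH).toEquiv, hX, hf, pow_one])
  refine ⟨Nat.card (Sylow p ↥H), card_sylow_modEq_one p ↥H, ?_⟩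
  rw [Sylow.card_eq_index_normalizer P]
  have e : Subgroup.normalizer ((X.subgroupOf H : Subgroup ↥H) : Set ↥H) =
      (H ⊓ Subgroup.normalizer (X : Set G)).subgroupOf H := by
    rw [← Subgroup.subgroupOf_normalizer_eq hXH, Subgroup.inf_subgroupOf_left]
  show (Subgroup.normalizer ((X.subgroupOf H : Subgroup ↥H) : Set ↥H)).index * _ = _
  rw [e, ← Nat.card_congr (Subgroup.subgroupOfEquivOfLe
    (inf_le_left : H ⊓ Subgroup.normalizer (X : Set G) ≤ H)).toEquiv, Subgroup.index_mul_card]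

/-- Fixed points of a subgroup of prime order on an invariant set. -/
theorem fixed_modEq {p : ℕ} [Fact p.Prime] {x : G} (hx : orderOf x = p) (D : Set G)
    (hD : ∀ (g : G), ∀ d ∈ D, g * d * g⁻¹ ∈ D) :
    D.ncard ≡ {d | d ∈ D ∧ Commute d x}.ncard [MOD p] := by
  let X := Subgroup.zpowers x
  letI : MulAction ↥X ↥D :=
    { smul := fun g d => ⟨(g : G) * d * (g : G)⁻¹, hD _ _ d.2⟩
      one_smul := fun d => Subtype.ext (by show (1 : G) * d * (1 : G)⁻¹ = d; group)
      mul_smul := fun g h d => Subtype.ext (by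
        show ((g : G) * h) * d * ((g : G) * h)⁻¹ = g * (h * d * (h : G)⁻¹) * (g : G)⁻¹; group) }
  have hp : IsPGroup p ↥X := IsPGroup.of_card (n := 1) (by rw [Nat.card_zpowers, hx, pow_one])
  have h := hp.card_modEq_card_fixedPoints ↥D
  rw [Nat.card_coe_set_eq] at h
  refine h.trans ?_
  suffices hc : Nat.card ↥(MulAction.fixedPoints ↥X ↥D) = {d | d ∈ D ∧ Commute d x}.ncard by rw [hc]
  rw [← Nat.card_coe_set_eq {d | d ∈ D ∧ Commute d x}]
  refine Nat.card_congr
    { toFun := fun d => ⟨d.1.1, d.1.2, ?_⟩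
      invFun := fun d => ⟨⟨d.1, d.2.1⟩, ?_⟩
      left_inv := fun d => rfl
      right_inv := fun d => rfl }
  · have e : x * (d.1 : G) * x⁻¹ = d.1 := congrArg Subtype.val (d.2 ⟨x, Subgroup.mem_zpowers x⟩)
    exact (mul_inv_eq_iff_eq_mul.mp e).symm
  · rintro ⟨g, hg⟩
    apply Subtype.ext
    show g * d.1 * g⁻¹ = d.1
    obtain ⟨k, rfl⟩ := Subgroup.mem_zpowers_iff.mp hg
    rw [((d.2.2.zpow_right k).symm).eq, mul_inv_cancel_right]

end Cfsg.Agent.Grp.M22Local
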