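import Cfsg.Agent.Lib.Grp.M22Local.Checks
import Cfsg.Agent.Lib.Grp.M22Local.Count
import Cfsg.Agent.Lib.Block.FischerTypes.U6Code.Local

/-! Elements given by words of numbered points, and bases of the centraliser of a member. -/

set_option autoImplicit false
set_option linter.style.haveILetI false
set_option linter.unusedSectionVars false

namespace Cfsg.Agent.Grp.M22Local

open Cfsg Cfsg.Agent.Spor.ThreeTrans Cfsg.Agent.Block.FischerTypes Cfsg.Agent.Block.FischerTypes.U6Code

variable {G : Type*} [Group G] [Finite G] {D : Set G} {a : G}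

/-- The element of a word, the first letter acting first. -/
def el (M : Model D a) : List ℕ → G
  | [] => 1
  | p :: w => el M w * M.pt p

theorem el_mem (M : Model D a) : ∀ {w : List ℕ}, w.all isPt = true → el M w ∈ PerpGroup D a
  | [], _ => one_mem _
  | p :: w, hw => by
    simp only [List.all_cons, Bool.and_eq_true] at hw
    exact mul_mem (el_mem M hw.2) (Subgroup.subset_closure (M.mem p hw.1))

theorem el_commute (M : Model D a) {w : List ℕ} (hw : w.all isPt = true) : Commute (el M w) a :=
  Model.commute_perp (el_mem M hw)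

theorem el_conj (h : IsThreeTranspositionClass D) (M : Model D a) : ∀ {w : List ℕ} {c : ℕ},
    w.all isPt = true → isPt c = true →
      isPt (act w c) = true ∧ el M w * M.pt c * (el M w)⁻¹ = M.pt (act w c)
  | [], c, _, hc => ⟨hc, by simp [el, act]⟩
  | p :: w, c, hw, hc => by
    simp only [List.all_cons, Bool.and_eq_true] at hw
    obtain ⟨h1, h2⟩ := M.conj p c hw.1 hc
    obtain ⟨h3, h5⟩ := el_conj h M hw.2 h1
    refine ⟨h3, ?_⟩
    show el M w * M.pt p * M.pt c * (el M w * M.pt p)⁻¹ = M.pt (act w (refl p c))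
    rw [← h5, ← h2, mul_inv_rev, inv_eq h.1 (M.mem p hw.1).1]
    simp [mul_assoc]

theorem el_append (M : Model D a) : ∀ (v w : List ℕ), el M (v ++ w) = el M w * el M v
  | [], w => by simp [el]
  | p :: v, w => by
    show el M (v ++ w) * M.pt p = el M w * (el M v * M.pt p)
    rw [el_append M v w, mul_assoc]

theorem el_rep (M : Model D a) : ∀ (n : ℕ) (w : List ℕ), el M (rep n w) = el M w ^ n
  | 0, w => by simp [rep, el]
  | n + 1, w => by rw [rep, el_append, el_rep M n w, pow_succ]

theorem rep_all : ∀ (n : ℕ) {w : List ℕ}, w.all isPt = true → (rep n w).all isPt = true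
  | 0, _, _ => rfl
  | n + 1, w, hw => by rw [rep, List.all_append, hw, rep_all n hw]; rfl

/-- The centraliser of `a` and of the points of `B`. -/
def fixPts (M : Model D a) (B : List ℕ) : Subgroup G :=
  Subgroup.centralizer ({a} : Set G) ⊓ Subgroup.centralizer {g | ∃ b ∈ B, M.pt b = g}

theorem mem_fixPts {M : Model D a} {B : List ℕ} {g : G} :
    g ∈ fixPts M B ↔ Commute g a ∧ ∀ b ∈ B, Commute g (M.pt b) := by
  rw [fixPts, Subgroup.mem_inf, Subgroup.mem_centralizer_singleton_iff, Subgroup.mem_centralizer_iff]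
  refine and_congr Iff.rfl ⟨fun k b hb => (k _ ⟨b, hb, rfl⟩).symm, ?_⟩
  rintro k _ ⟨b, hb, rfl⟩
  exact (k b hb).symm.eq

theorem fix_fixPts (M : Model D a) (B : List ℕ) (x : ℕ) :
    fix (fixPts M B) (M.pt x) = fixPts M (B ++ [x]) := by
  ext g
  rw [mem_fix, mem_fixPts, mem_fixPts]
  simp only [List.mem_append, List.mem_singleton, or_imp, forall_and, forall_eq]
  exact and_assoc

theorem incr_nodup : ∀ {l : List ℕ}, incr l = true → l.Nodup := by
  intro l hl
  suffices hp : l.Pairwise (· < ·) from hp.imp fun h => h.ne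
  induction l with
  | nil => exact List.Pairwise.nil
  | cons x l ih =>
    cases l with
    | nil => exact List.pairwise_singleton _ _
    | cons y l =>
      simp only [incr, Bool.and_eq_true] at hl
      have hxy : x < y := Nat.le_of_ble_eq_true hl.1
      have hp := ih hl.2
      refine List.Pairwise.cons (fun z hz => ?_) hp
      rcases List.mem_cons.mp hz with rfl | hz'
      · exact hxy
      · exact hxy.trans (List.rel_of_pairwise_cons hp hz')

theorem fixB_commute (h : IsThreeTranspositionClass D) (M : Model D a) {B w : List ℕ}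
    (hw : w.all isPt = true) (hB : ∀ b ∈ B, isPt b = true) (hf : fixB B w = true) {b : ℕ} (hb : b ∈ B) :
    Commute (el M w) (M.pt b) := by
  simp only [fixB, List.all_eq_true] at hf
  have e := (el_conj h M hw (hB b hb)).2
  rw [Nat.eq_of_beq_eq_true (hf b hb), mul_inv_eq_iff_eq_mul] at e
  exact e

theorem chain_le (h : IsThreeTranspositionClass D) (M : Model D a) :
    ∀ (l : List (ℕ × List (ℕ × List ℕ))) (B : List ℕ), (∀ b ∈ B, isPt b = true) → chkChain B l = true →
      (l.map fun s => s.2.length).prod * Nat.card ↥(fixPts M (B ++ l.map Prod.fst)) ≤ Nat.card ↥(fixPts M B)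
  | [], B, _, _ => by simp
  | s :: rest, B, hB, hchk => by
    classical
    simp only [chkChain, Bool.and_eq_true] at hchk
    obtain ⟨hst, hrest⟩ := hchk
    simp only [chkStage, Bool.and_eq_true, List.all_eq_true] at hst
    obtain ⟨⟨hx, hinc⟩, htr⟩ := hst
    have hB' : ∀ b ∈ B ++ [s.1], isPt b = true := fun b hb => by
      rcases List.mem_append.mp hb with hb | hb
      · exact hB b hb
      · rw [List.mem_singleton.mp hb]; exact hx
    have ih := chain_le h M rest (B ++ [s.1]) hB' hrest
    rw [List.append_assoc, List.singleton_append, ← fix_fixPts M B s.1] at ih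
    have hpts : ∀ c ∈ s.2.map Prod.fst, isPt c = true := fun c hc => by
      obtain ⟨e, he, rfl⟩ := List.mem_map.mp hc
      exact (htr e he).1.1.1
    have hS : ∀ y ∈ (↑((s.2.map Prod.fst).toFinset.image M.pt) : Set G),
        ∃ g ∈ fixPts M B, g * M.pt s.1 * g⁻¹ = y := by
      intro y hy
      rw [Finset.mem_coe, Finset.mem_image] at hy
      obtain ⟨c, hc, rfl⟩ := hy
      obtain ⟨e, he, rfl⟩ := List.mem_map.mp (List.mem_toFinset.mp hc)
      obtain ⟨⟨⟨-, hw⟩, hf⟩, hm⟩ := htr e he
      have hw' : e.2.all isPt = true := List.all_eq_true.mpr hw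
      refine ⟨el M e.2, mem_fixPts.mpr ⟨el_commute M hw', fun b hb => fixB_commute h M hw' hB hf hb⟩, ?_⟩
      rw [(el_conj h M hw' hx).2, Nat.eq_of_beq_eq_true hm]
    have key := mul_le_card _ _ hS
    rw [Set.ncard_coe_finset, Finset.card_image_of_injOn, List.toFinset_card_of_nodup (incr_nodup hinc),
      List.length_map] at key
    · rw [List.map_cons, List.prod_cons, mul_assoc]
      exact (Nat.mul_le_mul_left _ ih).trans key
    · intro c hc d hd e
      exact M.inj c d (hpts c (List.mem_toFinset.mp hc)) (hpts d (List.mem_toFinset.mp hd)) e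

/-- Only the powers of `a` fix a base. -/
theorem rigid (h : IsThreeTranspositionClass D) (M : Model D a) (ha : a ∈ D)
    (hcard : Nat.card ↥(Subgroup.centralizer ({a} : Set G)) = 2 * 9196830720)
    {l : List (ℕ × List (ℕ × List ℕ))} (hl : chkChain [] l = true)
    (hm : (l.map fun s => s.2.length).prod = 9196830720) {g : G} (hga : Commute g a)
    (hg : ∀ b ∈ l.map Prod.fst, Commute g (M.pt b)) : g ∈ Subgroup.zpowers a := by
  have k := chain_le h M l [] (by simp) hl
  rw [List.nil_append, hm] at k
  have k2 : Nat.card ↥(fixPts M []) ≤ 2 * 9196830720 :=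
    hcard ▸ Subgroup.card_le_of_le inf_le_left
  have hpts : ∀ (l : List (ℕ × List (ℕ × List ℕ))) (B : List ℕ), chkChain B l = true →
      ∀ b ∈ l.map Prod.fst, isPt b = true := by
    intro l
    induction l with
    | nil => simp
    | cons s rest ih =>
      intro B hB b hb
      simp only [chkChain, chkStage, Bool.and_eq_true] at hB
      rcases List.mem_cons.mp hb with rfl | hb
      · exact hB.1.1.1
      · exact ih _ hB.2 b hb
  have hle : Subgroup.zpowers a ≤ fixPts M (l.map Prod.fst) :=
    Subgroup.zpowers_le.mpr (mem_fixPts.mpr ⟨Commute.refl a, fun b hb => (M.mem b (hpts l [] hl b hb)).2.2⟩)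
  have e : Subgroup.zpowers a = fixPts M (l.map Prod.fst) := by
    refine Subgroup.eq_of_le_of_card_ge hle ?_
    rw [Nat.card_zpowers, h.1.1 a ha]
    omega
  rw [e]
  exact mem_fixPts.mpr ⟨hga, hg⟩

theorem sq_of_mem {z : G} (h : IsThreeTranspositionClass D) (ha : a ∈ D) (hz : z ∈ Subgroup.zpowers a) :
    z ^ 2 = 1 := by
  have hd := orderOf_dvd_natCard (⟨z, hz⟩ : ↥(Subgroup.zpowers a))
  rw [Nat.card_zpowers, h.1.1 a ha, Subgroup.orderOf_mk] at hd
  exact orderOf_dvd_iff_pow_eq_one.mp hd

/-- Elements of the same odd order with the same action on a base are equal. -/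
theorem eq_of_act (h : IsThreeTranspositionClass D) (M : Model D a) (ha : a ∈ D)
    (hcard : Nat.card ↥(Subgroup.centralizer ({a} : Set G)) = 2 * 9196830720)
    {l : List (ℕ × List (ℕ × List ℕ))} (hl : chkChain [] l = true)
    (hm : (l.map fun s => s.2.length).prod = 9196830720) {g k : G} {n : ℕ} (hga : Commute g a)
    (hka : Commute k a) (hact : ∀ b ∈ l.map Prod.fst, g * M.pt b * g⁻¹ = k * M.pt b * k⁻¹) (hn : Odd n)
    (hgn : g ^ n = 1) (hkn : k ^ n = 1) : g = k := by
  have hz : k⁻¹ * g ∈ Subgroup.zpowers a := by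
    refine rigid h M ha hcard hl hm (hka.inv_left.mul_left hga) fun b hb => ?_
    have e : k⁻¹ * (g * M.pt b * g⁻¹) * k = M.pt b := by rw [hact b hb]; simp [mul_assoc]
    show k⁻¹ * g * M.pt b = M.pt b * (k⁻¹ * g)
    conv_rhs => rw [← e]
    simp [mul_assoc]
  obtain ⟨i, hi⟩ := Subgroup.mem_zpowers_iff.mp hz
  have hkz : Commute k (k⁻¹ * g) := hi ▸ hka.zpow_right i
  have eg : g = k * (k⁻¹ * g) := by simp
  have hzn : (k⁻¹ * g) ^ n = 1 := by
    have e2 := hgn
    rw [eg, hkz.mul_pow, hkn, one_mul] at e2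
    exact e2
  have h2 : (k⁻¹ * g) ^ 2 = 1 := sq_of_mem h ha hz
  have h1 : k⁻¹ * g = 1 := by
    have h3 := Nat.dvd_gcd (orderOf_dvd_of_pow_eq_one h2) (orderOf_dvd_of_pow_eq_one hzn)
    rw [show Nat.gcd 2 n = 1 from (Nat.coprime_two_left.mpr hn)] at h3
    exact orderOf_eq_one_iff.mp (Nat.dvd_one.mp h3)
  rw [eg, h1, mul_one]

end Cfsg.Agent.Grp.M22Local
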