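import Cfsg.Agent.Lib.Grp.M22Local.FiveShape

/-! Subgroups of order five in a group of type M(22) are conjugate. -/

set_option autoImplicit false
set_option linter.style.haveILetI false
set_option linter.unusedSectionVars false

namespace Cfsg.Agent.Grp.M22Local

open Cfsg Cfsg.Agent.Spor.ThreeTrans Cfsg.Agent.Block.FischerTypes Cfsg.Agent.Block.FischerTypes.U6Code

variable {G : Type*} [Group G] [Finite G] {D : Set G}

theorem el_conjBy (h : IsThreeTranspositionClass D) {a : G} (M : Model D a) {g : G} (hg : Commute g a) :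
    ∀ w : List ℕ, el (M.conjBy h g hg) w = g * el M w * g⁻¹
  | [] => by simp [el]
  | p :: w => by
    show el (M.conjBy h g hg) w * (g * M.pt p * g⁻¹) = g * (el M w * M.pt p) * g⁻¹
    rw [el_conjBy h M hg w]
    simp [mul_assoc]

theorem fixed_zpowers {x y : G} (h : Subgroup.zpowers x = Subgroup.zpowers y) : fixed D x = fixed D y := by
  have key : ∀ {p q : G}, p ∈ Subgroup.zpowers q → ∀ d, Commute d q → Commute d p := by
    intro p q hp d hd
    obtain ⟨i, rfl⟩ := Subgroup.mem_zpowers_iff.mp hp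
    exact hd.zpow_right i
  ext d
  exact ⟨fun k => ⟨k.1, key (h ▸ Subgroup.mem_zpowers y) d k.2⟩,
    fun k => ⟨k.1, key (h.symm ▸ Subgroup.mem_zpowers x) d k.2⟩⟩

variable (C : M22.Ctx D) (hN : Numbered D)
include C hN

theorem five_at {y d : G} (hy : orderOf y = 5) (hd : d ∈ D) (hdy : Commute d y) :
    ∃ x b c, Subgroup.zpowers x = Subgroup.zpowers y ∧ Five D d x b c := by
  haveI : Fact (Nat.Prime 5) := ⟨by norm_num⟩
  obtain ⟨M⟩ := hN d hd
  obtain ⟨b, c, F⟩ := exists_five C.set.cls M hd (card_cen C hN hd)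
  obtain ⟨l, hl, e⟩ := conj_exact (cen d) (by rw [card_cen C hN hd]; exact five_sq)
    (X := Subgroup.zpowers (el M w5 ^ (5 + 1))) (Y := Subgroup.zpowers y)
    (by rw [Nat.card_zpowers, F.ox]) (by rw [Nat.card_zpowers, hy])
    (Subgroup.zpowers_le.mpr (mem_cen.mpr F.xa.symm)) (Subgroup.zpowers_le.mpr (mem_cen.mpr hdy.symm))
  obtain ⟨b', c', F'⟩ := exists_five C.set.cls (M.conjBy C.set.cls l (mem_cen.mp hl)) hd (card_cen C hN hd)
  refine ⟨_, b', c', ?_, F'⟩
  rw [el_conjBy, conj_pow, ← map_zpowers]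
  exact e

theorem ten_of_good {y : G} (hy : orderOf y = 5) (hne : (fixed D y).Nonempty) : (fixed D y).ncard = 10 := by
  obtain ⟨d, hd, hdy⟩ := hne
  obtain ⟨x, b, c, e, F⟩ := five_at C hN hy hd hdy
  rw [← fixed_zpowers e, F.ten C hN hd]

theorem card_sylow_five (P : Sylow 5 G) : Nat.card ↥(P : Subgroup G) = 25 := by
  haveI : Fact (Nat.Prime 5) := ⟨by norm_num⟩
  rw [Sylow.card_eq_multiplicity, M22.card_group C hN]
  have hd : 5 ^ 2 ∣ 64561751654400 ∧ ¬ 5 ^ 3 ∣ 64561751654400 := by norm_num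
  have h1 := ((Fact.out : Nat.Prime 5).pow_dvd_iff_le_factorization (by norm_num)).mp hd.1
  have h2 : ¬ 3 ≤ Nat.factorization 64561751654400 5 := fun k =>
    hd.2 (((Fact.out : Nat.Prime 5).pow_dvd_iff_le_factorization (by norm_num)).mpr k)
  rw [show Nat.factorization 64561751654400 5 = 2 by omega]
  norm_num

theorem good_all {y : G} (hy : orderOf y = 5) : ∃ d ∈ D, Commute d y := by
  classical
  haveI : Fact (Nat.Prime 5) := ⟨by norm_num⟩
  have h := C.set.cls
  obtain ⟨a, ha⟩ := Set.nonempty_of_ncard_ne_zero (s := D) (by rw [M22.ncard_eq C hN]; norm_num)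
  obtain ⟨M⟩ := hN a ha
  obtain ⟨b, c, F⟩ := exists_five h M ha (card_cen C hN ha)
  set x := el M w5 ^ (5 + 1) with hx
  obtain ⟨H, K, z, u, S⟩ := F.exists_shape C hN ha
  have hxz : Commute x z := S.comm x S.xF z S.zH
  have hzx : z ∉ Subgroup.zpowers x := by
    intro k
    have hz : z ∈ K ⊓ H := ⟨Subgroup.zpowers_le.mpr S.xF k, S.zH⟩
    rw [S.triv, Subgroup.mem_bot] at hz
    have := S.oz
    rw [hz, orderOf_one] at this
    omega
  let ψ : ↥(Subgroup.zpowers x) × ↥(Subgroup.zpowers z) →* G :=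
    MonoidHom.noncommCoprod (Subgroup.zpowers x).subtype (Subgroup.zpowers z).subtype (by
      rintro ⟨p, hp⟩ ⟨q, hq⟩
      obtain ⟨i, rfl⟩ := Subgroup.mem_zpowers_iff.mp hp
      obtain ⟨j, rfl⟩ := Subgroup.mem_zpowers_iff.mp hq
      exact hxz.zpow_zpow i j)
  have hψ : ∀ p q, ψ (p, q) = (p : G) * (q : G) := fun p q => rfl
  have hinj : Function.Injective ψ := by
    rw [← MonoidHom.ker_eq_bot_iff, Subgroup.eq_bot_iff_forall]
    rintro ⟨p, q⟩ hpq
    rw [MonoidHom.mem_ker, hψ] at hpq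
    have hq : (q : G) ∈ Subgroup.zpowers x := by
      rw [eq_inv_of_mul_eq_one_right hpq]; exact inv_mem p.2
    have hq1 : (q : G) = 1 := by
      by_contra hne
      have := eq_zpowers (p := 5) (X := Subgroup.zpowers z) (by rw [Nat.card_zpowers, S.oz]) q.2 hne
      exact hzx (Subgroup.zpowers_le.mpr hq (this ▸ Subgroup.mem_zpowers z))
    rw [hq1, mul_one] at hpq
    exact Prod.ext (Subtype.ext hpq) (Subtype.ext hq1)
  set P := ψ.range with hP
  have cardP : Nat.card ↥P = 25 := by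
    rw [hP, ← Nat.card_congr (MonoidHom.ofInjective hinj).toEquiv, Nat.card_prod, Nat.card_zpowers,
      Nat.card_zpowers, F.ox, S.oz]
  -- powers of `x` and `z`
  have memP : ∀ w ∈ P, ∃ i j : ℕ, w = x ^ i * z ^ j := by
    rintro _ ⟨⟨⟨p, hp⟩, ⟨q, hq⟩⟩, rfl⟩
    obtain ⟨i, rfl⟩ := mem_powers_iff_mem_zpowers.mpr hp
    obtain ⟨j, rfl⟩ := mem_powers_iff_mem_zpowers.mpr hq
    exact ⟨i, j, rfl⟩
  have hxP : ∀ i j : ℕ, x ^ i * z ^ j ∈ P := fun i j =>
    ⟨(⟨x ^ i, pow_mem (Subgroup.mem_zpowers x) i⟩, ⟨z ^ j, pow_mem (Subgroup.mem_zpowers z) j⟩), rfl⟩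
  -- goodness of an element
  let good : G → Prop := fun w => (fixed D w).Nonempty
  have gpow : ∀ (w : G) (k : ℕ), good w → good (w ^ k) := fun w k ⟨d, hd, hc⟩ => ⟨d, hd, hc.pow_right k⟩
  have gconj : ∀ (w g : G), good w → good (g * w * g⁻¹) := fun w g ⟨d, hd, hc⟩ =>
    ⟨g * d * g⁻¹, conj_mem h g hd, (commute_conj_iff g d w).mpr hc⟩
  have goodx : ∀ i, good (x ^ i) := fun i => gpow x i ⟨a, ha, F.xa⟩
  have goodz : ∀ j, good (z ^ j) := fun j => gpow z j ⟨u, S.hu, S.zu⟩
  have x5 : x ^ 5 = 1 := F.ox ▸ pow_orderOf_eq_one x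
  have z5 : z ^ 5 = 1 := S.oz ▸ pow_orderOf_eq_one z
  -- the Frobenius group moves `x` to each of its generators
  have orbK : ∀ i : ℕ, ¬ 5 ∣ i → ∃ f ∈ K, f * x * f⁻¹ = x ^ i := by
    intro i hi
    have h1 := card_orb K x
    have h2 : Nat.card ↥(fix K x) = 5 := by
      rw [show fix K x = Subgroup.zpowers x from S.inter, Nat.card_zpowers, F.ox]
    rw [S.cardF, h2] at h1
    have hsub : orb K x ⊆ (fun j => x ^ j) '' ({1, 2, 3, 4} : Set ℕ) := by
      rintro y ⟨g, hg, rfl⟩
      obtain ⟨j, hj⟩ := mem_powers_iff_mem_zpowers.mpr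
        (conj_mem_of_normalizer (S.sup ▸ Subgroup.mem_sup_left hg : g ∈ nor x) (Subgroup.mem_zpowers x))
      have hj' : x ^ j = g * x * g⁻¹ := hj
      refine ⟨j % 5, ?_, by show x ^ (j % 5) = _; rw [← F.ox, pow_mod_orderOf]; exact hj'⟩
      have : j % 5 ≠ 0 := fun e0 => by
        have k : g * x * g⁻¹ = 1 := by rw [← hj', ← pow_mod_orderOf, F.ox, e0, pow_zero]
        have hx1 : x = 1 := by simpa using k
        have := F.ox
        rw [hx1, orderOf_one] at this
        omega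
      simp only [Set.mem_insert_iff, Set.mem_singleton_iff]
      omega
    have h4 : ({1, 2, 3, 4} : Set ℕ).ncard = 4 := by
      rw [Set.ncard_insert_of_notMem (by simp), Set.ncard_insert_of_notMem (by simp),
        Set.ncard_insert_of_notMem (by simp), Set.ncard_singleton]
    have e := Set.eq_of_subset_of_ncard_le hsub ((Set.ncard_image_le (Set.toFinite _)).trans (by omega))
      ((Set.toFinite _).image _)
    have hmem : x ^ (i % 5) ∈ orb K x := by
      rw [e]
      refine ⟨i % 5, ?_, rfl⟩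
      simp only [Set.mem_insert_iff, Set.mem_singleton_iff]
      omega
    rw [← pow_mod_orderOf, F.ox]
    exact hmem
  have diag : ∀ i j : ℕ, ¬ 5 ∣ i → ¬ 5 ∣ j → (good (x ^ i * z ^ j) ↔ good (x * z)) := by
    have step : ∀ {i : ℕ}, ¬ 5 ∣ i → (good (x ^ i * z) ↔ good (x * z)) := by
      intro i hi
      obtain ⟨f, hf, e⟩ := orbK i hi
      have ef : f * (x * z) * f⁻¹ = x ^ i * z := by
        have hfz : Commute f z := S.comm f hf z S.zH
        rw [show f * (x * z) * f⁻¹ = f * x * f⁻¹ * (f * z * f⁻¹) by simp [mul_assoc], e, conj_fix hfz]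
      constructor
      · intro k
        have := gconj _ f⁻¹ k
        rw [← ef] at this
        simpa [mul_assoc] using this
      · intro k
        exact ef ▸ gconj _ f k
    intro i j hi hj
    obtain ⟨k, hk, hk5⟩ : ∃ k, j * k % 5 = 1 ∧ ¬ 5 ∣ k := by
      have : j % 5 = 1 ∨ j % 5 = 2 ∨ j % 5 = 3 ∨ j % 5 = 4 := by omega
      rcases this with e | e | e | e
      exacts [⟨1, by omega, by norm_num⟩, ⟨3, by omega, by norm_num⟩, ⟨2, by omega, by norm_num⟩,
        ⟨4, by omega, by norm_num⟩]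
    have hik : ¬ 5 ∣ i * k := fun d => by
      rcases (Fact.out : Nat.Prime 5).dvd_mul.mp d with d | d
      exacts [hi d, hk5 d]
    have e1 : (x ^ i * z ^ j) ^ k = x ^ (i * k) * z := by
      rw [(hxz.pow_pow i j).mul_pow, ← pow_mul x i k, ← pow_mul z j k, ← pow_mod_orderOf z (j * k), S.oz, hk,
        pow_one]
    constructor
    · exact fun g1 => (step hik).mp (e1 ▸ gpow _ k g1)
    · intro g1
      have g2 : good ((x ^ i * z ^ j) ^ k) := e1 ▸ (step hik).mpr g1
      have e2 : ((x ^ i * z ^ j) ^ k) ^ j = x ^ i * z ^ j := by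
        have h5 : (x ^ i * z ^ j) ^ 5 = 1 := by
          rw [(hxz.pow_pow i j).mul_pow, ← pow_mul x i 5, ← pow_mul z j 5, mul_comm i, mul_comm j, pow_mul x,
            pow_mul z, x5, z5]
          simp
        rw [← pow_mul, mul_comm k j, ← Nat.mod_add_div (j * k) 5, hk, pow_add, pow_mul, h5, one_pow, mul_one,
          pow_one]
      exact e2 ▸ gpow _ j g2
  -- counting orbits of `P` on the members
  have hall : good (x * z) := by
    by_contra hbad
    letI : MulAction ↥P ↥D :=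
      { smul := fun g d => ⟨(g : G) * d * (g : G)⁻¹, conj_mem h _ d.2⟩
        one_smul := fun d => Subtype.ext (by show (1 : G) * d * (1 : G)⁻¹ = d; group)
        mul_smul := fun g k d => Subtype.ext (by
          show ((g : G) * k) * d * ((g : G) * k)⁻¹ = g * (k * d * (k : G)⁻¹) * (g : G)⁻¹; group) }
    haveI : Fintype ↥P := Fintype.ofFinite _
    haveI : Fintype ↥D := Fintype.ofFinite _
    haveI : Fintype (MulAction.orbitRel.Quotient ↥P ↥D) := Fintype.ofFinite _
    have hB := MulAction.sum_card_fixedBy_eq_card_orbits_mul_card_group ↥P ↥D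
    have hfx : ∀ w : ↥P, Fintype.card ↥(MulAction.fixedBy (↥D) w) = (fixed D (w : G)).ncard := by
      intro w
      rw [← Nat.card_eq_fintype_card, ← Nat.card_coe_set_eq]
      refine Nat.card_congr
        { toFun := fun d => ⟨d.1.1, d.1.2, ?_⟩
          invFun := fun d => ⟨⟨d.1, d.2.1⟩, ?_⟩
          left_inv := fun d => rfl
          right_inv := fun d => rfl }
      · have e : (w : G) * (d.1 : G) * (w : G)⁻¹ = d.1 := congrArg Subtype.val d.2
        exact (mul_inv_eq_iff_eq_mul.mp e).symm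
      · exact Subtype.ext (conj_fix d.2.2.symm)
    simp only [hfx] at hB
    let ι : Fin 5 × Fin 5 → ↥P := fun p => ⟨x ^ (p.1 : ℕ) * z ^ (p.2 : ℕ), hxP _ _⟩
    have hι : Function.Bijective ι := by
      rw [Fintype.bijective_iff_surjective_and_card]
      refine ⟨fun w => ?_, ?_⟩
      · obtain ⟨i, j, e⟩ := memP w w.2
        refine ⟨(⟨i % 5, Nat.mod_lt _ (by norm_num)⟩, ⟨j % 5, Nat.mod_lt _ (by norm_num)⟩), Subtype.ext ?_⟩
        show x ^ (i % 5) * z ^ (j % 5) = w
        rw [e, ← pow_mod_orderOf x i, ← pow_mod_orderOf z j, F.ox, S.oz]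
      · rw [← Nat.card_eq_fintype_card (α := ↥P), cardP]
        rfl
    rw [← hι.sum_comp (fun w : ↥P => (fixed D (w : G)).ncard), ← Nat.card_eq_fintype_card (α := ↥P),
      cardP] at hB
    have hval : ∀ p : Fin 5 × Fin 5, (fixed D (ι p : G)).ncard =
        if p.1 = 0 ∧ p.2 = 0 then 3510 else if p.1 = 0 ∨ p.2 = 0 then 10 else 0 := by
      rintro ⟨i, j⟩
      have h5 : ∀ k : Fin 5, k ≠ 0 → ¬ 5 ∣ (k : ℕ) := fun k hk d =>
        hk (Fin.ext (Nat.eq_zero_of_dvd_of_lt d k.2))
      have ord5 : ∀ w : G, w ^ 5 = 1 → w ≠ 1 → orderOf w = 5 := fun w => orderOf_eq_prime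
      show (fixed D (x ^ (i : ℕ) * z ^ (j : ℕ))).ncard = _
      by_cases hi : i = 0
      · subst hi
        by_cases hj : j = 0
        · subst hj
          rw [if_pos ⟨rfl, rfl⟩, ← M22.ncard_eq C hN]
          simp [fixed]
        · rw [if_neg (fun k => hj k.2), if_pos (Or.inl rfl)]
          simp only [Fin.val_zero, pow_zero, one_mul]
          refine ten_of_good C hN (ord5 _ ?_ fun e => ?_) (goodz _)
          · rw [← pow_mul, mul_comm, pow_mul, z5, one_pow]
          · exact h5 j hj (by have := orderOf_dvd_of_pow_eq_one e; rwa [S.oz] at this)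
      · by_cases hj : j = 0
        · subst hj
          rw [if_neg (fun k => hi k.1), if_pos (Or.inr rfl)]
          simp only [Fin.val_zero, pow_zero, mul_one]
          refine ten_of_good C hN (ord5 _ ?_ fun e => ?_) (goodx _)
          · rw [← pow_mul, mul_comm, pow_mul, x5, one_pow]
          · exact h5 i hi (by have := orderOf_dvd_of_pow_eq_one e; rwa [F.ox] at this)
        · rw [if_neg (fun k => hi k.1), if_neg (fun k => k.elim hi hj), Set.ncard_eq_zero (Set.toFinite _)]
          exact Set.not_nonempty_iff_eq_empty.mp fun k => hbad ((diag _ _ (h5 i hi) (h5 j hj)).mp k)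
    simp only [hval] at hB
    rw [show (∑ p : Fin 5 × Fin 5,
      if p.1 = 0 ∧ p.2 = 0 then 3510 else if p.1 = 0 ∨ p.2 = 0 then 10 else 0) = 3590 from by decide +kernel] at hB
    omega
  -- every element of order five is conjugate into `P`
  obtain ⟨Q, hQ⟩ : ∃ Q : Sylow 5 G, Subgroup.zpowers y ≤ Q :=
    (IsPGroup.of_card (n := 1) (by rw [Nat.card_zpowers, hy, pow_one]) : IsPGroup 5 ↥(Subgroup.zpowers y)).exists_le_sylow
  obtain ⟨R, hR⟩ : ∃ R : Sylow 5 G, P ≤ R :=
    (IsPGroup.of_card (n := 2) (by rw [cardP]; norm_num) : IsPGroup 5 ↥P).exists_le_sylow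
  have hPR : P = R := Subgroup.eq_of_le_of_card_ge hR (by rw [card_sylow_five C hN, cardP])
  obtain ⟨g, hg⟩ := MulAction.exists_smul_eq G Q R
  have hym : g * y * g⁻¹ ∈ P := by
    rw [hPR, ← hg, Sylow.coe_subgroup_smul]
    exact Subgroup.smul_mem_pointwise_smul y (MulAut.conj g) _ (hQ (Subgroup.mem_zpowers y))
  obtain ⟨i, j, e⟩ := memP _ hym
  have hgood : good (g * y * g⁻¹) := by
    rw [e]
    by_cases hi : 5 ∣ i
    · obtain ⟨k, rfl⟩ := hi
      rw [pow_mul, x5, one_pow, one_mul]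
      exact goodz j
    · by_cases hj : 5 ∣ j
      · obtain ⟨k, rfl⟩ := hj
        rw [pow_mul z, z5, one_pow, mul_one]
        exact goodx i
      · exact (diag i j hi hj).mpr hall
  obtain ⟨d, hd, hc⟩ := gconj _ g⁻¹ hgood
  exact ⟨d, hd, by simpa [mul_assoc] using hc⟩

end Cfsg.Agent.Grp.M22Local
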