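import Cfsg.Agent.Lib.Grp.M22Local.Base
import Cfsg.Agent.Lib.Block.FischerTypes.M22Order

/-! Elements of prime order and the members they commute with, in a group of type M(22). -/

set_option autoImplicit false
set_option linter.style.haveILetI false
set_option linter.unusedSectionVars false

namespace Cfsg.Agent.Grp.M22Local

open Cfsg Cfsg.Agent.Spor.ThreeTrans Cfsg.Agent.Block.FischerTypes

variable {G : Type*} [Group G] [Finite G] {D : Set G}

/-- The members commuting with `x`. -/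
def fixed (D : Set G) (x : G) : Set G := {d | d ∈ D ∧ Commute d x}

/-- The members of `fixed` that are in `perp D a`. -/
def fixedPerp (D : Set G) (x a : G) : Set G := {d | d ∈ perp D a ∧ Commute d x}

/-- The members of `fixed` that are apart from `a`. -/
def fixedApart (D : Set G) (x a : G) : Set G := {d | d ∈ apart D a ∧ Commute d x}

/-- The centraliser of a member. -/
abbrev cen (a : G) : Subgroup G := Subgroup.centralizer ({a} : Set G)

/-- The normaliser of the subgroup generated by `x`. -/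
abbrev nor (x : G) : Subgroup G := Subgroup.normalizer ((Subgroup.zpowers x : Subgroup G) : Set G)

theorem mem_cen {a g : G} : g ∈ cen a ↔ Commute g a := Subgroup.mem_centralizer_singleton_iff

theorem comm_conj_fixed {g x d : G} (hg : Commute g x) (hd : Commute d x) : Commute (g * d * g⁻¹) x :=
  (hg.mul_left hd).mul_left hg.inv_left

/-- Conjugation by an element normalising `⟨x⟩` preserves commuting with `x`. -/
theorem comm_nor {g x d : G} (hg : g ∈ nor x) (hd : Commute d x) : Commute (g * d * g⁻¹) x := by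
  obtain ⟨i, hi⟩ := Subgroup.mem_zpowers_iff.mp
    (conj_mem_of_normalizer (inv_mem hg) (Subgroup.mem_zpowers x))
  have h1 : Commute d (g⁻¹ * x * g⁻¹⁻¹) := hi ▸ hd.zpow_right i
  have h2 := (commute_conj_iff g d (g⁻¹ * x * g⁻¹⁻¹)).mpr h1
  simpa [mul_assoc] using h2

theorem nor_of_commute {g x : G} (hg : Commute g x) : g ∈ nor x :=
  mem_normalizer_zpowers (by rw [hg.eq, mul_inv_cancel_right]; exact Subgroup.mem_zpowers x)

theorem nor_le_of_commute {g x : G} (hg : g ∈ nor x) {d : G} (hd : Commute d x) :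
    Commute (g⁻¹ * d * g) x := by
  have := comm_nor (inv_mem hg) hd
  simpa using this

section

variable (C : M22.Ctx D) (hN : Numbered D)
include C hN

theorem card_cen {a : G} (ha : a ∈ D) : Nat.card ↥(cen a) = 2 * 9196830720 := M22.card_centralizer C ha

theorem move {p : ℕ} [Fact p.Prime] (hp : ¬ p ^ 2 ∣ 2 * 9196830720) {a d x : G} (ha : a ∈ D) (hd : d ∈ D)
    (hx : orderOf x = p) (hxa : Commute a x) (hxd : Commute d x) : ∃ m ∈ nor x, m * a * m⁻¹ = d := by
  obtain ⟨k, rfl⟩ := transitive C.set.cls ha hd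
  have h1 : Subgroup.zpowers (k * x * k⁻¹) ≤ cen (k * a * k⁻¹) :=
    Subgroup.zpowers_le.mpr (mem_cen.mpr ((commute_conj_iff k x a).mpr hxa.symm))
  have h2 : Subgroup.zpowers x ≤ cen (k * a * k⁻¹) := Subgroup.zpowers_le.mpr (mem_cen.mpr hxd.symm)
  obtain ⟨l, hl, e⟩ := conj_exact (cen (k * a * k⁻¹)) (by rw [card_cen C hN hd]; exact hp)
    (X := Subgroup.zpowers (k * x * k⁻¹)) (Y := Subgroup.zpowers x)
    (by rw [Nat.card_zpowers]; exact (MulEquiv.orderOf_eq (MulAut.conj k) x).trans hx)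
    (by rw [Nat.card_zpowers, hx]) h1 h2
  refine ⟨l * k, mem_normalizer_zpowers ?_, ?_⟩
  · rw [map_zpowers] at e
    rw [← e]
    convert Subgroup.mem_zpowers (l * (k * x * k⁻¹) * l⁻¹) using 1
    simp [mul_assoc]
  · have hl' := (mem_cen.mp hl).eq
    calc l * k * a * (l * k)⁻¹ = l * (k * a * k⁻¹) * l⁻¹ := by simp [mul_assoc]
      _ = k * a * k⁻¹ := by rw [hl', mul_inv_cancel_right]

theorem move_apart {p : ℕ} [Fact p.Prime] (hp : ¬ p ^ 2 ∣ 2 * 9196830720) {a e f x : G} (ha : a ∈ D)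
    (hx : orderOf x = p) (hxa : Commute a x) (he : e ∈ fixedApart D x a) (hf : f ∈ fixedApart D x a) :
    ∃ k ∈ cen a ⊓ nor x, k * e * k⁻¹ = f := by
  obtain ⟨k, hk, rfl⟩ := transitive_apart C.set.hyp ha (a₀ := e) he.1 (b₀ := f) hf.1
  have hka : Commute k a := localGroup_commute hk
  have h1 : Subgroup.zpowers (k * x * k⁻¹) ≤ fix (cen a) (k * e * k⁻¹) := by
    refine Subgroup.zpowers_le.mpr (mem_fix.mpr ⟨mem_cen.mpr ?_, (commute_conj_iff k x e).mpr he.2.symm⟩)
    exact (hka.mul_left hxa.symm).mul_left hka.inv_left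
  have h2 : Subgroup.zpowers x ≤ fix (cen a) (k * e * k⁻¹) :=
    Subgroup.zpowers_le.mpr (mem_fix.mpr ⟨mem_cen.mpr hxa.symm, hf.2.symm⟩)
  obtain ⟨l, hl, e'⟩ := conj_exact (fix (cen a) (k * e * k⁻¹))
    (fun hd => hp (by rw [← card_cen C hN ha]; exact hd.trans (Subgroup.card_dvd_of_le inf_le_left)))
    (X := Subgroup.zpowers (k * x * k⁻¹)) (Y := Subgroup.zpowers x)
    (by rw [Nat.card_zpowers]; exact (MulEquiv.orderOf_eq (MulAut.conj k) x).trans hx)
    (by rw [Nat.card_zpowers, hx]) h1 h2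
  obtain ⟨hla, hle⟩ := mem_fix.mp hl
  refine ⟨l * k, ⟨mem_cen.mpr ((mem_cen.mp hla).mul_left hka), mem_normalizer_zpowers ?_⟩, ?_⟩
  · rw [map_zpowers] at e'
    rw [← e']
    convert Subgroup.mem_zpowers (l * (k * x * k⁻¹) * l⁻¹) using 1
    simp [mul_assoc]
  · calc l * k * e * (l * k)⁻¹ = l * (k * e * k⁻¹) * l⁻¹ := by simp [mul_assoc]
      _ = k * e * k⁻¹ := by rw [hle.eq, mul_inv_cancel_right]

theorem fixed_count {x a : G} (ha : a ∈ D) (hxa : Commute a x) :
    (fixed D x).ncard = 1 + (fixedPerp D x a).ncard + (fixedApart D x a).ncard := by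
  have e : fixed D x = insert a (fixedPerp D x a) ∪ fixedApart D x a := by
    ext d
    constructor
    · intro hd
      by_cases hc : Commute a d
      · by_cases he : d = a
        · exact Or.inl (Or.inl he)
        · exact Or.inl (Or.inr ⟨⟨hd.1, he, hc⟩, hd.2⟩)
      · exact Or.inr ⟨⟨hd.1, fun k => hc k.symm⟩, hd.2⟩
    · rintro ((rfl | hd) | hd)
      · exact ⟨ha, hxa⟩
      · exact ⟨hd.1.1, hd.2⟩
      · exact ⟨hd.1.1, hd.2⟩
  rw [e, Set.ncard_union_eq, Set.ncard_insert_of_notMem (fun k => k.1.2.1 rfl)]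
  · omega
  · rw [Set.disjoint_left]
    rintro d (rfl | hd) hd'
    · exact hd'.1.2 (Commute.refl _)
    · exact hd'.1.2 hd.1.2.2.symm

/-- Every member commuting with `x` has the same configuration. -/
theorem fixedPerp_ncard {p : ℕ} [Fact p.Prime] (hp : ¬ p ^ 2 ∣ 2 * 9196830720) {a d x : G} (ha : a ∈ D)
    (hd : d ∈ D) (hx : orderOf x = p) (hxa : Commute a x) (hxd : Commute d x) :
    (fixedPerp D x d).ncard = (fixedPerp D x a).ncard := by
  obtain ⟨m, hm, rfl⟩ := move C hN hp ha hd hx hxa hxd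
  have e : fixedPerp D x (m * a * m⁻¹) = (fun u => m * u * m⁻¹) '' fixedPerp D x a := by
    ext u
    constructor
    · intro hu
      refine ⟨m⁻¹ * u * m, ⟨?_, nor_le_of_commute hm hu.2⟩, by simp [mul_assoc]⟩
      rw [← conj_mem_perp C.set.cls m a]
      simpa [mul_assoc] using hu.1
    · rintro ⟨v, hv, rfl⟩
      exact ⟨(conj_mem_perp C.set.cls m a).mpr hv.1, comm_nor hm hv.2⟩
  rw [e, Set.ncard_image_of_injective _ fun u v k => mul_left_cancel (mul_right_cancel k)]

/-- The orbit of `a` under the normaliser is the set of members commuting with `x`. -/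
theorem orb_nor {p : ℕ} [Fact p.Prime] (hp : ¬ p ^ 2 ∣ 2 * 9196830720) {a x : G} (ha : a ∈ D)
    (hx : orderOf x = p) (hxa : Commute a x) : orb (nor x) a = fixed D x := by
  ext d
  constructor
  · rintro ⟨m, hm, rfl⟩
    exact ⟨conj_mem C.set.cls m ha, comm_nor hm hxa⟩
  · rintro ⟨hd, hxd⟩
    exact move C hN hp ha hd hx hxa hxd

theorem conj_all {p : ℕ} [Fact p.Prime] (hp : ¬ p ^ 2 ∣ 2 * 9196830720)
    (hall : ∀ y : G, orderOf y = p → ∃ d ∈ D, Commute d y) {X Y : Subgroup G} (hX : Nat.card ↥X = p)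
    (hY : Nat.card ↥Y = p) : ∃ g : G, X.map (MulAut.conj g).toMonoidHom = Y := by
  obtain ⟨x, hx, hox⟩ := exists_gen hX
  obtain ⟨y, hy, hoy⟩ := exists_gen hY
  have hx1 : x ≠ 1 := by rintro rfl; rw [orderOf_one] at hox; exact (Fact.out : p.Prime).ne_one hox.symm
  have hy1 : y ≠ 1 := by rintro rfl; rw [orderOf_one] at hoy; exact (Fact.out : p.Prime).ne_one hoy.symm
  obtain ⟨d, hd, hdx⟩ := hall x hox
  obtain ⟨e, he, hey⟩ := hall y hoy
  obtain ⟨k, rfl⟩ := transitive C.set.cls hd he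
  rw [eq_zpowers hX hx hx1, eq_zpowers hY hy hy1]
  obtain ⟨l, -, hl⟩ := conj_exact (cen (k * d * k⁻¹)) (by rw [card_cen C hN he]; exact hp)
    (X := Subgroup.zpowers (k * x * k⁻¹)) (Y := Subgroup.zpowers y)
    (by rw [Nat.card_zpowers]; exact (MulEquiv.orderOf_eq (MulAut.conj k) x).trans hox)
    (by rw [Nat.card_zpowers, hoy])
    (Subgroup.zpowers_le.mpr (mem_cen.mpr ((commute_conj_iff k x d).mpr hdx.symm)))
    (Subgroup.zpowers_le.mpr (mem_cen.mpr hey.symm))
  refine ⟨l * k, ?_⟩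
  rw [map_zpowers] at hl ⊢
  rw [← hl]
  simp [mul_assoc]

end

end Cfsg.Agent.Grp.M22Local
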