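import Cfsg.Agent.Lib.Grp.M22Local.Common

/-! The configuration of an element of order five in the centraliser of a member. -/

set_option autoImplicit false
set_option linter.style.haveILetI false
set_option linter.unusedSectionVars false

namespace Cfsg.Agent.Grp.M22Local

open Cfsg Cfsg.Agent.Spor.ThreeTrans Cfsg.Agent.Block.FischerTypes Cfsg.Agent.Block.FischerTypes.U6Code

variable {G : Type*} [Group G] [Finite G] {D : Set G}

/-- The product of four successive conjugates of `u` under `x`. -/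
def yOf (x u : G) : G :=
  u * (x * u * x⁻¹) * (x ^ 2 * u * (x ^ 2)⁻¹) * (x ^ 3 * u * (x ^ 3)⁻¹)

/-- What is needed about an element `x` of order five commuting with `a`. -/
structure Five (D : Set G) (a x b c : G) : Prop where
  hb : b ∈ perp D a
  hc : c ∈ perp D a
  nc : ¬ Commute b c
  ox : orderOf x = 5
  xa : Commute a x
  xb : Commute b x
  xc : Commute c x
  perp3 : fixedPerp D x a = {b, c, c * b * c}
  cardC : Nat.card ↥(fix (cen a) x) = 60
  cardK : Nat.card ↥(fix (fix (fix (cen a) x) b) c) = 10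
  cardN : Nat.card ↥(cen a ⊓ nor x) = 240
  npow : ∀ j : ℕ, ¬ 5 ∣ j → ∃ n, Commute n a ∧ Commute n b ∧ Commute n c ∧ n * x ^ j * n⁻¹ = x
  path : ∀ u ∈ perp D a, Commute b u → u ≠ b → yOf x u ^ 6 = x → Commute c u
  seed : ∃ u ∈ perp D a, u ≠ b ∧ Commute b u ∧ Commute c u ∧ yOf x u ^ 6 = x

variable {a : G}

/-- An element with the action of a word whose power fixes the base. -/
theorem pow_conj (h : IsThreeTranspositionClass D) (M : Model D a) (ha : a ∈ D) {w : List ℕ}
    (hw : w.all isPt = true) {p : ℕ} (hz : el M w ^ p ∈ Subgroup.zpowers a) {c : ℕ} (hc : isPt c = true) :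
    el M w ^ (p + 1) * M.pt c * (el M w ^ (p + 1))⁻¹ = M.pt (act w c) := by
  obtain ⟨i, hi⟩ := Subgroup.mem_zpowers_iff.mp hz
  have hcom : Commute (el M w ^ p) (M.pt c) := hi ▸ (Commute.zpow_left (M.mem c hc).2.2 i)
  rw [pow_succ', mul_inv_rev, show el M w * el M w ^ p * M.pt c * ((el M w ^ p)⁻¹ * (el M w)⁻¹) =
    el M w * (el M w ^ p * M.pt c * (el M w ^ p)⁻¹) * (el M w)⁻¹ by simp [mul_assoc], hcom.eq,
    mul_inv_cancel_right]
  exact (el_conj h M hw hc).2

theorem base5_pts : ∀ b ∈ chain5.map Prod.fst, isPt b = true := by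
  have : (base5.all isPt) = true := by decide +kernel
  exact List.all_eq_true.mp this

theorem exists_five (h : IsThreeTranspositionClass D) (M : Model D a) (ha : a ∈ D)
    (hcard : Nat.card ↥(cen a) = 2 * 9196830720) : ∃ b c, Five D a (el M w5 ^ (5 + 1)) b c := by
  classical
  haveI : Fact (Nat.Prime 5) := ⟨by norm_num⟩
  have hp := five_pts
  simp only [Bool.and_eq_true] at hp
  obtain ⟨⟨⟨⟨⟨⟨⟨⟨⟨pb, pc⟩, p6⟩, pw⟩, pn⟩, po⟩, h6⟩, hbc⟩, hfw⟩, hfn⟩ := hp
  have h6' : refl c0 b0 = 6 := Nat.eq_of_beq_eq_true h6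
  obtain ⟨hbase, ho, hw5⟩ := five_base
  have hz : el M w5 ^ 5 ∈ Subgroup.zpowers a := by
    refine rigid h M ha hcard chain5_ok chain5_mult ((el_commute M pw).pow_left 5) fun b hb => ?_
    rw [← el_rep]
    exact fixB_commute h M (rep_all 5 pw) base5_pts five_pow hb
  have h2 := sq_of_mem h ha hz
  let x := el M w5 ^ (5 + 1)
  have hxa : Commute x a := (el_commute M pw).pow_left _
  have hx5 : x ^ 5 = 1 := by
    show (el M w5 ^ (5 + 1)) ^ 5 = 1
    rw [← pow_mul, show (5 + 1) * 5 = 5 * (2 * 3) by norm_num, pow_mul, pow_mul, h2, one_pow]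
  have hact : ∀ {c : ℕ}, isPt c = true → x * M.pt c * x⁻¹ = M.pt (act w5 c) := fun hc =>
    pow_conj h M ha pw hz hc
  have hcomm : ∀ {c : ℕ}, isPt c = true → (Commute (M.pt c) x ↔ act w5 c = c) := by
    intro c hc
    constructor
    · intro k
      refine M.inj _ _ (el_conj h M pw hc).1 hc ?_
      rw [← hact hc, ← k.eq, mul_inv_cancel_right]
    · intro e
      have k := hact hc
      rw [e, mul_inv_eq_iff_eq_mul] at k
      exact k.symm
  have pts : isPt 15 = true ∧ isPt 23 = true := by decide +kernel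
  have hox : orderOf x = 5 := by
    refine orderOf_eq_prime hx5 fun e => ?_
    have k := (hcomm pts.1).mp (by rw [e]; exact Commute.one_right _)
    revert k; decide +kernel
  simp only [fixB, List.all_cons, List.all_nil, Bool.and_true, Bool.and_eq_true] at hfw hfn
  obtain ⟨fb, fc, f6⟩ := hfw
  obtain ⟨gb, gc⟩ := hfn
  have hxb : Commute (M.pt b0) x := (hcomm pb).mpr (Nat.eq_of_beq_eq_true fb)
  have hxc : Commute (M.pt c0) x := (hcomm pc).mpr (Nat.eq_of_beq_eq_true fc)
  have hx6 : Commute (M.pt 6) x := (hcomm p6).mpr (Nat.eq_of_beq_eq_true f6)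
  set b := M.pt b0 with hbdef
  set c := M.pt c0 with hcdef
  have hbc' : ¬ Commute b c := fun k => by
    rw [(M.comm _ _ pb pc).mp k] at hbc
    exact Bool.noConfusion hbc
  have hc6 : c * b * c = M.pt 6 := by rw [← h6']; exact (M.conj c0 b0 pc pb).2
  have hperp3 : fixedPerp D x a = {b, c, c * b * c} := by
    ext d
    rw [hc6]
    constructor
    · rintro ⟨hd, hdx⟩
      obtain ⟨q, hq, rfl⟩ := M.surj d hd
      have k := List.all_eq_true.mp five_fixed q (mem_ptList.mpr hq)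
      rw [(hcomm hq).mp hdx] at k
      simp only [Bool.or_eq_true, Bool.not_eq_true'] at k
      rcases k with ((k | k) | k) | k
      · simp at k
      · rw [Nat.eq_of_beq_eq_true k]; exact Or.inl rfl
      · rw [Nat.eq_of_beq_eq_true k]; exact Or.inr (Or.inl rfl)
      · rw [Nat.eq_of_beq_eq_true k]; exact Or.inr (Or.inr rfl)
    · rintro (rfl | rfl | rfl)
      exacts [⟨M.mem _ pb, hxb⟩, ⟨M.mem _ pc, hxc⟩, ⟨M.mem _ p6, hx6⟩]
  have ne3 : b ≠ c ∧ b ≠ c * b * c ∧ c ≠ c * b * c := by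
    refine ⟨fun e => hbc' (e ▸ Commute.refl _), fun e => hbc' ?_, fun e => hbc' ?_⟩
    · show b * c = c * b
      conv_lhs => rw [e]
      rw [mul_assoc, mul_self h.1 (M.mem _ pc).1, mul_one]
    · have e2 : c * c = c * (c * b * c) := by rw [← e]
      rw [mul_self h.1 (M.mem _ pc).1, mul_assoc c b c, mul_self_mul h.1 (M.mem _ pc).1] at e2
      rw [eq_inv_of_mul_eq_one_left e2.symm]
      exact (Commute.refl c).inv_left
  set C := fix (cen a) x with hC
  set K1 := fix C b with hK1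
  set K0 := fix K1 c with hK0
  have memC : ∀ {g}, g ∈ C ↔ Commute g a ∧ Commute g x := fun {g} => by rw [hC, mem_fix, mem_cen]
  have memK0 : ∀ {g}, g ∈ K0 ↔ ((Commute g a ∧ Commute g x) ∧ Commute g b) ∧ Commute g c := fun {g} => by
    rw [hK0, mem_fix, hK1, mem_fix, memC]
  have img : ∀ g ∈ C, ∀ d ∈ fixedPerp D x a, g * d * g⁻¹ ∈ fixedPerp D x a := fun g hg d hd =>
    ⟨perp_conj' h (memC.mp hg).1 hd.1, comm_conj_fixed (memC.mp hg).2 hd.2⟩
  -- upper bounds
  have n3 : ({b, c, c * b * c} : Set G).ncard = 3 := Set.ncard_eq_three.mpr ⟨_, _, _, ne3.1, ne3.2.1, ne3.2.2, rfl⟩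
  have n2 : ({c, c * b * c} : Set G).ncard = 2 := Set.ncard_pair ne3.2.2
  have u1 : Nat.card ↥C ≤ 3 * Nat.card ↥K1 := n3 ▸ card_le_mul C b fun g hg =>
    hperp3 ▸ img g hg b (hperp3 ▸ Or.inl rfl)
  have u2 : Nat.card ↥K1 ≤ 2 * Nat.card ↥K0 := n2 ▸ card_le_mul K1 c fun g hg => by
    obtain ⟨hgC, hgb⟩ := mem_fix.mp hg
    have hm := hperp3 ▸ img g hgC c (hperp3 ▸ Or.inr (Or.inl rfl))
    rcases hm with e | e
    · exfalso
      rw [← show g * b * g⁻¹ = b by rw [hgb.eq, mul_inv_cancel_right]] at e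
      exact ne3.1 (mul_left_cancel (mul_right_cancel e)).symm
    · exact e
  have u3 : Nat.card ↥K0 ≤ 5 * 2 := by
    have hS : ∀ g ∈ K0, g * M.pt 15 * g⁻¹ ∈ (↑(o5.toFinset.image M.pt) : Set G) := by
      intro g hg
      obtain ⟨⟨⟨hga, hgx⟩, hgb⟩, hgc⟩ := memK0.mp hg
      have hu := perp_conj' h hga (M.mem 15 pts.1)
      obtain ⟨q, hq, hq'⟩ := M.surj _ hu
      have k := List.all_eq_true.mp five_class q (mem_ptList.mpr hq)
      simp only [Bool.or_eq_true, List.contains_eq_mem, decide_eq_true_eq] at k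
      rw [Finset.mem_coe, Finset.mem_image]
      refine ⟨q, List.mem_toFinset.mpr ?_, hq'⟩
      have hq1 : adj b0 q = true := by
        refine (M.comm _ _ pb hq).mp ?_
        rw [hq', ← (mul_inv_eq_iff_eq_mul.mpr hgb.eq : g * M.pt b0 * g⁻¹ = M.pt b0)]
        exact (commute_conj_iff g _ _).mpr ((M.comm _ _ pb pts.1).mpr (by decide +kernel))
      have hq2 : adj c0 q = true := by
        refine (M.comm _ _ pc hq).mp ?_
        rw [hq', ← (mul_inv_eq_iff_eq_mul.mpr hgc.eq : g * M.pt c0 * g⁻¹ = M.pt c0)]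
        exact (commute_conj_iff g _ _).mpr ((M.comm _ _ pc pts.1).mpr (by decide +kernel))
      have mv : ∀ {r : ℕ}, isPt r = true → g * M.pt r * g⁻¹ = x⁻¹ * (g * (x * M.pt r * x⁻¹) * g⁻¹) * x := by
        intro r hr
        have e := hgx.eq
        have e' : g * x * M.pt r * x⁻¹ * g⁻¹ = x * (g * M.pt r * g⁻¹) * x⁻¹ := by
          rw [e]; simp only [mul_assoc]
          rw [show x⁻¹ * g⁻¹ = g⁻¹ * x⁻¹ by rw [← mul_inv_rev, ← mul_inv_rev, e]]
        rw [show g * (x * M.pt r * x⁻¹) * g⁻¹ = g * x * M.pt r * x⁻¹ * g⁻¹ by simp [mul_assoc], e']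
        simp [mul_assoc]
      have s1 : M.pt (act w5 q) = g * M.pt (act w5 15) * g⁻¹ := by
        rw [← hact hq, ← hact pts.1, hq', mv pts.1]
        simp [mul_assoc]
      have p1 := (el_conj h M pw pts.1).1
      have s2 : M.pt (act w5 (act w5 q)) = g * M.pt (act w5 (act w5 15)) * g⁻¹ := by
        rw [← hact (el_conj h M pw hq).1, s1, ← hact p1, mv p1]
        simp [mul_assoc]
      have hq3 : adj q (act w5 q) = false := by
        rw [← Bool.not_eq_true]
        intro e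
        have e2 := (M.comm _ _ hq (el_conj h M pw hq).1).mpr e
        rw [hq', s1, commute_conj_iff, M.comm _ _ pts.1 p1] at e2
        revert e2; decide +kernel
      have hq4 : adj q (act w5 (act w5 q)) = true := by
        refine (M.comm _ _ hq (el_conj h M pw (el_conj h M pw hq).1).1).mp ?_
        rw [hq', s2, commute_conj_iff, M.comm _ _ pts.1 (el_conj h M pw p1).1]
        decide +kernel
      simpa [hq1, hq2, hq3, hq4] using k
    have hfix : Nat.card ↥(fix K0 (M.pt 15)) ≤ 2 := by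
      rw [← h.1.1 a ha, ← Nat.card_zpowers]
      refine Subgroup.card_le_of_le fun g hg => ?_
      obtain ⟨hg, hg15⟩ := mem_fix.mp hg
      obtain ⟨⟨⟨hga, hgx⟩, hgb⟩, hgc⟩ := memK0.mp hg
      refine rigid h M ha hcard chain5_ok chain5_mult hga ?_
      show ∀ q ∈ base5, Commute g (M.pt q)
      rw [hbase]
      have step : ∀ {r : ℕ}, isPt r = true → Commute g (M.pt r) → Commute g (M.pt (act w5 r)) := fun hr k => by
        rw [← hact hr]; exact (hgx.mul_right k).mul_right hgx.inv_right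
      have e23 : act w5 15 = 23 ∧ act w5 23 = 48 ∧ act w5 48 = 2079 := by decide +kernel
      have k23 : Commute g (M.pt 23) := e23.1 ▸ step pts.1 hg15
      have k48 : Commute g (M.pt 48) := e23.2.1 ▸ step pts.2 k23
      have k2079 : Commute g (M.pt 2079) := e23.2.2 ▸ step (by decide +kernel) k48
      simpa using ⟨hgb, hgc, hg15, k23, k48, k2079⟩
    refine (card_le_mul K0 (M.pt 15) hS).trans (Nat.mul_le_mul ?_ hfix)
    rw [Set.ncard_coe_finset]
    exact Finset.card_image_le.trans ((List.toFinset_card_le _).trans_eq (by rw [ho]; rfl))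
  -- lower bounds
  have hbD : b ∈ D := (M.mem _ pb).1
  have hcD : c ∈ D := (M.mem _ pc).1
  have l0 : 10 ≤ Nat.card ↥K0 := by
    refine Nat.le_of_dvd Nat.card_pos (Nat.Coprime.mul_dvd_of_dvd_of_dvd (by norm_num : Nat.Coprime 2 5) ?_ ?_)
    · have hm : a ∈ K0 := memK0.mpr ⟨⟨⟨Commute.refl a, hxa.symm⟩, (M.mem _ pb).2.2⟩, (M.mem _ pc).2.2⟩
      rw [← h.1.1 a ha, ← Subgroup.orderOf_mk a hm]
      exact orderOf_dvd_natCard _
    · have hm : x ∈ K0 := memK0.mpr ⟨⟨⟨hxa, Commute.refl x⟩, hxb.symm⟩, hxc.symm⟩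
      rw [← hox, ← Subgroup.orderOf_mk x hm]
      exact orderOf_dvd_natCard _
  have bC : b ∈ C := memC.mpr ⟨(M.mem _ pb).2.2.symm, hxb⟩
  have cC : c ∈ C := memC.mpr ⟨(M.mem _ pc).2.2.symm, hxc⟩
  have hbr : b * c * b = c * b * c := braid h.1 hbD hcD hbc'
  have l1 : 2 * Nat.card ↥K0 ≤ Nat.card ↥K1 := n2 ▸ mul_le_card K1 c (S := {c, c * b * c}) (by
    rintro y (rfl | rfl)
    · exact ⟨1, one_mem _, by simp⟩
    · exact ⟨b, mem_fix.mpr ⟨bC, Commute.refl b⟩, by rw [inv_eq h.1 hbD, hbr]⟩)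
  have l2 : 3 * Nat.card ↥K1 ≤ Nat.card ↥C := n3 ▸ mul_le_card C b (S := {b, c, c * b * c}) (by
    rintro y (rfl | rfl | rfl)
    · exact ⟨1, one_mem _, by simp⟩
    · refine ⟨b * c, mul_mem bC cC, ?_⟩
      rw [mul_inv_rev, inv_eq h.1 hbD, inv_eq h.1 hcD,
        show b * c * b * (c * b) = b * (c * b * c) * b by simp [mul_assoc], ← hbr]
      simp [mul_assoc, mul_self h.1 hbD, mul_self_mul h.1 hbD]
    · exact ⟨c, cC, by rw [inv_eq h.1 hcD]⟩)
  have cardK : Nat.card ↥K0 = 10 := by omega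
  have cardC : Nat.card ↥C = 60 := by omega
  -- the normaliser
  let n := el M n5
  have hna : Commute n a := el_commute M pn
  have hnb : Commute n b := by
    have e := (el_conj h M pn pb).2
    rw [Nat.eq_of_beq_eq_true gb, mul_inv_eq_iff_eq_mul] at e
    exact e
  have hnc : Commute n c := by
    have e := (el_conj h M pn pc).2
    rw [Nat.eq_of_beq_eq_true gc, mul_inv_eq_iff_eq_mul] at e
    exact e
  have hnx : n * x * n⁻¹ = x ^ 2 := by
    have k1 : Commute (n⁻¹ * x ^ 2 * n) a := (hna.inv_left.mul_left (hxa.pow_left 2)).mul_left hna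
    have k2 : (n⁻¹ * x ^ 2 * n) ^ 5 = 1 := by
      have := conj_pow (i := 5) (a := n⁻¹) (b := x ^ 2)
      rw [inv_inv] at this
      rw [this, ← pow_mul, show 2 * 5 = 5 * 2 by norm_num, pow_mul, hx5, one_pow]
      simp
    have e : x = n⁻¹ * x ^ 2 * n := by
      refine eq_of_act h M ha hcard chain5_ok chain5_mult hxa k1 (fun q hq => ?_) (n := 5) (by decide) hx5 k2
      have hqp := base5_pts q hq
      have hqw := (el_conj h M pw hqp).1
      have hqn := (el_conj h M pn hqp).1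
      have k := Nat.eq_of_beq_eq_true (List.all_eq_true.mp five_norm q hq)
      have e1 : n * (x * M.pt q * x⁻¹) * n⁻¹ = x ^ 2 * (n * M.pt q * n⁻¹) * (x ^ 2)⁻¹ := by
        rw [hact hqp, (el_conj h M pn hqw).2, (el_conj h M pn hqp).2, k]
        rw [show x ^ 2 * M.pt (act n5 q) * (x ^ 2)⁻¹ = x * (x * M.pt (act n5 q) * x⁻¹) * x⁻¹ by
          simp [pow_two, mul_assoc], hact hqn, hact (el_conj h M pw hqn).1]
        simp [rep, act, List.foldl_append]
      rw [show n⁻¹ * x ^ 2 * n * M.pt q * (n⁻¹ * x ^ 2 * n)⁻¹ =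
        n⁻¹ * (x ^ 2 * (n * M.pt q * n⁻¹) * (x ^ 2)⁻¹) * n by simp [mul_assoc], ← e1]
      simp [mul_assoc]
    conv_lhs => rw [e]
    simp [mul_assoc]
  have npow : ∀ k : ℕ, n ^ k * x * (n ^ k)⁻¹ = x ^ 2 ^ k := by
    intro k
    induction k with
    | zero => simp
    | succ k ih =>
      rw [pow_succ n, mul_inv_rev, show n ^ k * n * x * (n⁻¹ * (n ^ k)⁻¹) =
        n ^ k * (n * x * n⁻¹) * (n ^ k)⁻¹ by simp [mul_assoc], hnx, ← conj_pow, ih, ← pow_mul, pow_succ]
  have hsurj : ∀ j : ℕ, ¬ 5 ∣ j → ∃ k, x ^ j = n ^ k * x * (n ^ k)⁻¹ := by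
    intro j hj
    obtain ⟨k, hk⟩ : ∃ k, 2 ^ k % 5 = j % 5 := by
      have : j % 5 = 1 ∨ j % 5 = 2 ∨ j % 5 = 3 ∨ j % 5 = 4 := by omega
      rcases this with e | e | e | e <;> rw [e]
      exacts [⟨0, rfl⟩, ⟨1, rfl⟩, ⟨3, rfl⟩, ⟨2, rfl⟩]
    exact ⟨k, by rw [npow, ← pow_mod_orderOf x (2 ^ k), hox, hk, ← hox, pow_mod_orderOf]⟩
  set N := cen a ⊓ nor x with hN
  have hfixN : fix N x = C := by
    ext g
    rw [mem_fix, hN, Subgroup.mem_inf, mem_cen, memC]
    exact ⟨fun k => ⟨k.1.1, k.2⟩, fun k => ⟨⟨k.1, nor_of_commute k.2⟩, k.2⟩⟩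
  have u4 : Nat.card ↥N ≤ 4 * 60 := by
    have := card_le_mul N x (S := (fun j => x ^ j) '' ({1, 2, 3, 4} : Set ℕ)) (fun g hg => by
      obtain ⟨i, hi⟩ := mem_powers_iff_mem_zpowers.mpr
        (conj_mem_of_normalizer hg.2 (Subgroup.mem_zpowers x))
      refine ⟨i % 5, ?_, by show x ^ (i % 5) = _; rw [← hox, pow_mod_orderOf]; exact hi⟩
      have : i % 5 ≠ 0 := fun e => by
        have hx1 : x = 1 := by
          have hi' : x ^ i = g * x * g⁻¹ := hi
          have k : g * x * g⁻¹ = 1 := by rw [← hi', ← pow_mod_orderOf, hox, e, pow_zero]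
          simpa using k
        rw [hx1, orderOf_one] at hox
        omega
      simp only [Set.mem_insert_iff, Set.mem_singleton_iff]
      omega)
    rw [hfixN, cardC] at this
    refine this.trans (Nat.mul_le_mul_right _ ((Set.ncard_image_le (Set.toFinite _)).trans ?_))
    simp
  have l4 : 4 * 60 ≤ Nat.card ↥N := by
    have := mul_le_card N x (S := (fun j => x ^ j) '' ({1, 2, 3, 4} : Set ℕ)) (by
      rintro _ ⟨j, hj, rfl⟩
      obtain ⟨k, hk⟩ := hsurj j (by rcases hj with rfl | rfl | rfl | rfl <;> norm_num)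
      refine ⟨n ^ k, Subgroup.mem_inf.mpr ⟨mem_cen.mpr (hna.pow_left k), ?_⟩, hk.symm⟩
      refine mem_normalizer_zpowers ?_
      rw [← hk]
      exact pow_mem (Subgroup.mem_zpowers x) j)
    rw [hfixN, cardC] at this
    rw [Set.InjOn.ncard_image] at this
    · simpa using this
    · intro i hi j hj e
      have hi' : i < 5 := by rcases hi with rfl | rfl | rfl | rfl <;> norm_num
      have hj' : j < 5 := by rcases hj with rfl | rfl | rfl | rfl <;> norm_num
      exact pow_injOn_Iio_orderOf (by rw [hox]; exact hi') (by rw [hox]; exact hj') e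
  -- the predicate
  have yeq : ∀ {u : ℕ}, isPt u = true → yOf x (M.pt u) = el M [act w5 (act w5 (act w5 u)), act w5 (act w5 u),
      act w5 u, u] := by
    intro u hu
    have q1 := (el_conj h M pw hu).1
    have q2 := (el_conj h M pw q1).1
    have e1 := hact hu
    have e2 : x ^ 2 * M.pt u * (x ^ 2)⁻¹ = M.pt (act w5 (act w5 u)) := by
      rw [show x ^ 2 * M.pt u * (x ^ 2)⁻¹ = x * (x * M.pt u * x⁻¹) * x⁻¹ by simp [pow_two, mul_assoc], e1, hact q1]
    have e3 : x ^ 3 * M.pt u * (x ^ 3)⁻¹ = M.pt (act w5 (act w5 (act w5 u))) := by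
      rw [show x ^ 3 * M.pt u * (x ^ 3)⁻¹ = x * (x ^ 2 * M.pt u * (x ^ 2)⁻¹) * x⁻¹ by
        simp [pow_succ', mul_assoc], e2, hact q2]
    rw [yOf, e1, e2, e3]
    simp [el]
  have path : ∀ u ∈ perp D a, Commute b u → u ≠ b → yOf x u ^ 6 = x → Commute c u := by
    intro u hu hbu hne hy
    obtain ⟨q, hq, rfl⟩ := M.surj u hu
    have k := List.all_eq_true.mp five_path q (mem_ptList.mpr hq)
    simp only [Bool.or_eq_true, Bool.not_eq_true', List.any_eq_true] at k
    rcases k with ((k | k) | k) | ⟨r, hr, k⟩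
    · rw [(M.comm _ _ pb hq).mp hbu] at k; exact Bool.noConfusion k
    · exact absurd (by rw [Nat.eq_of_beq_eq_true k]) hne
    · exact (M.comm _ _ pc hq).mpr k
    · exfalso
      have hqs : ([act w5 (act w5 (act w5 q)), act w5 (act w5 q), act w5 q, q] : List ℕ).all isPt = true := by
        have q1 := (el_conj h M pw hq).1
        have q2 := (el_conj h M pw q1).1
        simp [hq, q1, q2, (el_conj h M pw q2).1]
      have hrp := base5_pts r hr
      rw [yeq hq, ← el_rep] at hy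
      obtain ⟨hp1, hp2⟩ := el_conj h M (rep_all 6 hqs) hrp
      rw [hy, hact hrp] at hp2
      have hpw : act (pathWord q) r = act w5 r := (M.inj _ _ (el_conj h M pw hrp).1 hp1 hp2).symm
      rw [hpw] at k
      simp at k
  have seed : ∃ u ∈ perp D a, u ≠ b ∧ Commute b u ∧ Commute c u ∧ yOf x u ^ 6 = x := by
    have hadj : adj b0 15 = true ∧ adj c0 15 = true := by decide +kernel
    refine ⟨M.pt 15, M.mem _ pts.1, fun e => ?_, (M.comm _ _ pb pts.1).mpr hadj.1,
      (M.comm _ _ pc pts.1).mpr hadj.2, ?_⟩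
    · have := M.inj _ _ pts.1 pb e
      revert this; decide +kernel
    · rw [yeq pts.1, show [act w5 (act w5 (act w5 15)), act w5 (act w5 15), act w5 15, 15] = w5 by decide +kernel]
  refine ⟨b, c, M.mem _ pb, M.mem _ pc, hbc', hox, hxa.symm, hxb, hxc, hperp3, cardC, cardK, ?_, ?_, path, seed⟩
  · exact le_antisymm u4 l4
  · intro j hj
    obtain ⟨k, hk⟩ := hsurj j hj
    refine ⟨(n ^ k)⁻¹, (hna.pow_left k).inv_left, (hnb.pow_left k).inv_left, (hnc.pow_left k).inv_left, ?_⟩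
    show _ = x
    rw [hk]
    simp [mul_assoc]

end Cfsg.Agent.Grp.M22Local
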