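import Cfsg.Agent.Lib.Grp.M22Local.Five

/-! The ten members commuting with an element of order five. -/

set_option autoImplicit false
set_option linter.style.haveILetI false
set_option linter.unusedSectionVars false

namespace Cfsg.Agent.Grp.M22Local

open Cfsg Cfsg.Agent.Spor.ThreeTrans Cfsg.Agent.Block.FischerTypes

variable {G : Type*} [Group G] [Finite G] {D : Set G}

theorem five_sq : ¬ 5 ^ 2 ∣ 2 * 9196830720 := by norm_num

theorem cent_eq_fix_nor (x : G) : Subgroup.centralizer ({x} : Set G) = fix (nor x) x := by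
  ext g
  rw [mem_fix, Subgroup.mem_centralizer_singleton_iff]
  exact ⟨fun h => ⟨nor_of_commute h, h⟩, fun h => h.2⟩

theorem conj_fix {g d : G} (h : Commute g d) : g * d * g⁻¹ = d := by rw [h.eq, mul_inv_cancel_right]

variable (C : M22.Ctx D) (hN : Numbered D) {a x b c : G} (ha : a ∈ D) (F : Five D a x b c)
include C hN ha F

theorem Five.mem_fixed : a ∈ fixed D x ∧ b ∈ fixed D x ∧ c ∈ fixed D x :=
  ⟨⟨ha, F.xa⟩, ⟨F.hb.1, F.xb⟩, ⟨F.hc.1, F.xc⟩⟩

theorem Five.tri_ne : b ≠ c ∧ b ≠ c * b * c ∧ c ≠ c * b * c ∧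
    ¬ Commute b (c * b * c) ∧ ¬ Commute c (c * b * c) := by
  have h := C.set.cls
  have n2 : ¬ Commute c (c * b * c) := by
    intro k
    apply F.nc
    have k' := (commute_conj_iff c c (c * b * c)).mpr k
    rw [inv_eq h.1 F.hc.1, mul_self h.1 F.hc.1, one_mul] at k'
    rw [show c * (c * b * c) * c = b by simp [mul_assoc, mul_self h.1 F.hc.1, mul_self_mul h.1 F.hc.1]] at k'
    exact k'.symm
  have n1 : ¬ Commute b (c * b * c) := by
    intro k
    apply n2
    rw [← braid h.1 F.hb.1 F.hc.1 F.nc] at k ⊢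
    exfalso
    apply F.nc
    have k' := (commute_conj_iff b b (b * c * b)).mpr k
    rw [inv_eq h.1 F.hb.1, mul_self h.1 F.hb.1, one_mul] at k'
    rw [show b * (b * c * b) * b = c by simp [mul_assoc, mul_self h.1 F.hb.1, mul_self_mul h.1 F.hb.1]] at k'
    exact k'
  exact ⟨fun e => F.nc (e ▸ Commute.refl _), fun e => n1 (e ▸ Commute.refl _), fun e => n2 (e ▸ Commute.refl _),
    n1, n2⟩

theorem Five.three : (fixedPerp D x a).ncard = 3 := by
  obtain ⟨h1, h2, h3, -, -⟩ := F.tri_ne C hN ha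
  rw [F.perp3]
  exact Set.ncard_eq_three.mpr ⟨_, _, _, h1, h2, h3, rfl⟩

theorem Five.perp_three {d : G} (hd : d ∈ fixed D x) : (fixedPerp D x d).ncard = 3 := by
  haveI : Fact (Nat.Prime 5) := ⟨by norm_num⟩
  rw [fixedPerp_ncard C hN five_sq ha hd.1 F.ox F.xa hd.2, F.three C hN ha]

/-- Two members commuting with `x` and with one such member do not commute. -/
theorem Five.triangle {d u v : G} (hd : d ∈ fixed D x) (hu : u ∈ fixedPerp D x d) (hv : v ∈ fixedPerp D x d)
    (hne : u ≠ v) : ¬ Commute u v := by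
  haveI : Fact (Nat.Prime 5) := ⟨by norm_num⟩
  obtain ⟨m, hm, rfl⟩ := move C hN five_sq ha hd.1 F.ox F.xa hd.2
  have back : ∀ {w}, w ∈ fixedPerp D x (m * a * m⁻¹) → m⁻¹ * w * m ∈ fixedPerp D x a := fun {w} hw =>
    ⟨by rw [← conj_mem_perp C.set.cls m a]; simpa [mul_assoc] using hw.1, nor_le_of_commute hm hw.2⟩
  intro hc
  have hc' : Commute (m⁻¹ * u * m) (m⁻¹ * v * m) := by
    have := (commute_conj_iff m⁻¹ u v).mpr hc
    simpa using this
  have hne' : m⁻¹ * u * m ≠ m⁻¹ * v * m := fun e => hne (mul_left_cancel (mul_right_cancel e))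
  obtain ⟨-, -, -, n1, n2⟩ := F.tri_ne C hN ha
  have hu' := back hu
  have hv' := back hv
  rw [F.perp3] at hu' hv'
  simp only [Set.mem_insert_iff, Set.mem_singleton_iff] at hu' hv'
  rcases hu' with e | e | e <;> rcases hv' with e' | e' | e' <;> rw [e, e'] at hc' hne'
  all_goals first
    | exact hne' rfl
    | exact F.nc hc'
    | exact F.nc hc'.symm
    | exact n1 hc'
    | exact n1 hc'.symm
    | exact n2 hc'
    | exact n2 hc'.symm

theorem Five.product_conj {g : G} (hga : Commute g a) (hgx : Commute g x) :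
    g * (b * c) * g⁻¹ ∈ Subgroup.zpowers (b * c) := by
  have h := C.set.cls
  have hb' : b ∈ fixedPerp D x a := ⟨F.hb, F.xb⟩
  have hc' : c ∈ fixedPerp D x a := ⟨F.hc, F.xc⟩
  have hu : g * b * g⁻¹ ∈ fixedPerp D x a := ⟨perp_conj' h hga hb'.1, comm_conj_fixed hgx hb'.2⟩
  have hv : g * c * g⁻¹ ∈ fixedPerp D x a := ⟨perp_conj' h hga hc'.1, comm_conj_fixed hgx hc'.2⟩
  have hne : g * b * g⁻¹ ≠ g * c * g⁻¹ := fun e => (F.tri_ne C hN ha).1 (mul_left_cancel (mul_right_cancel e))
  rw [F.perp3] at hu hv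
  simp only [Set.mem_insert_iff, Set.mem_singleton_iff] at hu hv
  have hz := Subgroup.mem_zpowers (b * c)
  have hz' : c * b ∈ Subgroup.zpowers (b * c) := by
    have := inv_mem hz
    rwa [mul_inv_rev, inv_eq h.1 F.hb.1, inv_eq h.1 F.hc.1] at this
  have hbr := braid h.1 F.hb.1 F.hc.1 F.nc
  have e1 : b * (c * b * c) = c * b := by
    rw [← hbr]; simp [mul_assoc, mul_self_mul h.1 F.hb.1]
  have e2 : c * b * c * b = b * c := by
    rw [← hbr]; simp [mul_assoc, mul_self h.1 F.hb.1]
  have e3 : c * (c * b * c) = b * c := by simp [mul_assoc, mul_self_mul h.1 F.hc.1]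
  have e4 : c * b * c * c = c * b := by simp [mul_assoc, mul_self h.1 F.hc.1]
  rw [show g * (b * c) * g⁻¹ = g * b * g⁻¹ * (g * c * g⁻¹) by simp [mul_assoc]]
  rcases hu with e | e | e <;> rcases hv with e' | e' | e' <;> rw [e, e'] at hne ⊢
  all_goals first
    | exact absurd rfl hne
    | exact hz
    | exact hz'
    | (rw [e1]; exact hz')
    | (rw [e2]; exact hz)
    | (rw [e3]; exact hz)
    | (rw [e4]; exact hz')

theorem Five.apart_six : (fixedApart D x a).ncard = 6 := by
  classical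
  haveI : Fact (Nat.Prime 5) := ⟨by norm_num⟩
  haveI : Fact (Nat.Prime 3) := ⟨by norm_num⟩
  have h := C.set.cls
  set A := fixedApart D x a with hA
  have hcount := fixed_count C hN ha F.xa
  rw [F.three C hN ha] at hcount
  have hmod := fixed_modEq F.ox D fun g d hd => conj_mem h g hd
  change D.ncard ≡ (fixed D x).ncard [MOD 5] at hmod
  rw [M22.ncard_eq C hN, hcount, ← hA] at hmod
  unfold Nat.ModEq at hmod
  obtain ⟨e, he⟩ : A.Nonempty := by
    rw [← Set.ncard_pos (Set.toFinite _)]; omega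
  set N := cen a ⊓ nor x with hNdef
  have horb : ∀ {f}, f ∈ A → orb N f = A := by
    intro f hf
    ext d
    constructor
    · rintro ⟨k, hk, rfl⟩
      have hka := mem_cen.mp hk.1
      refine ⟨⟨conj_mem h k hf.1.1, fun k' => hf.1.2 ?_⟩, comm_nor hk.2 hf.2⟩
      rwa [← conj_fix hka, commute_conj_iff] at k'
    · intro hd
      exact move_apart C hN five_sq ha F.ox F.xa hf hd
  have hdvd : A.ncard ∣ 240 := F.cardN ▸ horb he ▸ orb_ncard_dvd N e
  have h2 : 2 ≤ A.ncard := by
    have he' : a * e * a⁻¹ ∈ A := by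
      rw [← horb he]
      exact ⟨a, ⟨mem_cen.mpr (Commute.refl a), nor_of_commute F.xa⟩, rfl⟩
    have hne : a * e * a⁻¹ ≠ e := fun k => he.1.2 (mul_inv_eq_iff_eq_mul.mp k).symm
    calc 2 = ({a * e * a⁻¹, e} : Set G).ncard := (Set.ncard_pair hne).symm
      _ ≤ A.ncard := Set.ncard_le_ncard (by rintro y (rfl | rfl); exacts [he', he])
  have hcases : A.ncard = 6 ∨ A.ncard = 16 := by
    have hle : A.ncard ≤ 240 := Nat.le_of_dvd (by norm_num) hdvd
    obtain ⟨n, hn⟩ : ∃ n, n = A.ncard := ⟨_, rfl⟩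
    rw [← hn] at hdvd h2 hle hmod ⊢
    have key : ∀ m ∈ Finset.Icc 2 240, m ∣ 240 → (1 + 3 + m) % 5 = 0 → m = 6 ∨ m = 16 := by decide +kernel
    exact key n (Finset.mem_Icc.mpr ⟨h2, hle⟩) hdvd (by omega)
  refine hcases.resolve_right fun h16 => ?_
  -- every member of `A` would commute with `b`
  have allb : ∀ f ∈ A, Commute f b := by
    intro f hf
    by_contra hfb
    have hS : Nat.card ↥(fix N f) = 15 := by
      have := card_orb N f
      rw [horb hf, h16, F.cardN] at this
      omega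
    obtain ⟨t, hto⟩ := exists_prime_orderOf_dvd_card' (G := ↥(fix N f)) 3 (by rw [hS]; norm_num)
    have ht3 : orderOf (t : G) = 3 := by rw [Subgroup.orderOf_coe]; exact hto
    obtain ⟨htN, htf⟩ := mem_fix.mp t.2
    have hta := mem_cen.mp htN.1
    have htx : Commute (t : G) x := by
      obtain ⟨j, hj⟩ := mem_powers_iff_mem_zpowers.mpr (conj_mem_of_normalizer htN.2 (Subgroup.mem_zpowers x))
      have hj' : x ^ j = (t : G) * x * (t : G)⁻¹ := hj
      have it : ∀ k : ℕ, (t : G) ^ k * x * ((t : G) ^ k)⁻¹ = x ^ j ^ k := by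
        intro k
        induction k with
        | zero => simp
        | succ k ih =>
          rw [pow_succ (t : G), mul_inv_rev, show (t : G) ^ k * t * x * ((t : G)⁻¹ * ((t : G) ^ k)⁻¹) =
            (t : G) ^ k * (t * x * (t : G)⁻¹) * ((t : G) ^ k)⁻¹ by simp [mul_assoc], ← hj', ← conj_pow, ih,
            ← pow_mul, pow_succ]
      have h3 := it 3
      rw [← ht3, pow_orderOf_eq_one, ht3, inv_one, mul_one, one_mul, ← pow_mod_orderOf, F.ox] at h3
      have hj1 : j % 5 = 1 := by
        have hm : j ^ 3 % 5 = 1 := by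
          by_contra hne
          exact hne (pow_injOn_Iio_orderOf (show j ^ 3 % 5 < orderOf x by rw [F.ox]; omega)
            (show 1 < orderOf x by rw [F.ox]; norm_num)
            (show x ^ (j ^ 3 % 5) = x ^ 1 by rw [pow_one]; exact h3.symm))
        rw [Nat.pow_mod] at hm
        have : j % 5 < 5 := Nat.mod_lt _ (by norm_num)
        interval_cases hj5 : j % 5 <;> omega
      show (t : G) * x = x * t
      rw [← mul_inv_eq_iff_eq_mul, ← hj', ← pow_mod_orderOf, F.ox, hj1, pow_one]
    have htC : (t : G) ∈ fix (cen a) x := mem_fix.mpr ⟨mem_cen.mpr hta, htx⟩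
    have hbc : b * c ∈ fix (cen a) x := mem_fix.mpr
      ⟨mem_cen.mpr (F.hb.2.2.symm.mul_left F.hc.2.2.symm), F.xb.mul_left F.xc⟩
    have hbco : orderOf (b * c) = 3 := by
      refine orderOf_eq_prime (pow_three_of_not_commute h F.hb.1 F.hc.1 F.nc) fun e => F.nc ?_
      rw [eq_inv_of_mul_eq_one_left e]
      exact (Commute.refl c).inv_left
    obtain ⟨g, hg, e'⟩ := conj_exact (p := 3) (fix (cen a) x) (by rw [F.cardC]; norm_num)
      (X := Subgroup.zpowers (b * c)) (Y := Subgroup.zpowers (t : G))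
      (by rw [Nat.card_zpowers, hbco]) (by rw [Nat.card_zpowers, ht3])
      (Subgroup.zpowers_le.mpr hbc) (Subgroup.zpowers_le.mpr htC)
    obtain ⟨hga, hgx⟩ := mem_fix.mp hg
    have ht_mem : (t : G) ∈ Subgroup.zpowers (b * c) := by
      have k : (t : G) ∈ (Subgroup.zpowers (b * c)).map (MulAut.conj g).toMonoidHom :=
        e' ▸ Subgroup.mem_zpowers _
      rw [map_zpowers] at k
      exact Subgroup.zpowers_le.mpr (F.product_conj C hN ha (mem_cen.mp hga) hgx) k
    have hz : Subgroup.zpowers (b * c) = Subgroup.zpowers (t : G) := by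
      refine eq_zpowers (p := 3) (by rw [Nat.card_zpowers, hbco]) ht_mem fun e0 => ?_
      rw [e0, orderOf_one] at ht3
      omega
    have hcom : Commute f (b * c) := by
      obtain ⟨i, hi⟩ := Subgroup.mem_zpowers_iff.mp (hz ▸ Subgroup.mem_zpowers (b * c))
      rw [← hi]
      exact htf.symm.zpow_right i
    have hf2 := mul_self h.1 hf.1.1
    have hb2 := mul_self h.1 F.hb.1
    have eb := braid h.1 hf.1.1 F.hb.1 hfb
    have k0 : f * (b * c) * f = b * c := by rw [hcom.eq, mul_assoc, hf2, mul_one]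
    have k1 : f * (c * b) * f = c * b := by
      have := congrArg (·⁻¹) k0
      simpa [mul_inv_rev, inv_eq h.1 F.hb.1, inv_eq h.1 F.hc.1, inv_eq h.1 hf.1.1, mul_assoc] using this
    have k2 : f * b * f * (b * c) * (f * b * f) = c * b := by
      calc f * b * f * (b * c) * (f * b * f) = f * b * (f * (b * c) * f) * b * f := by simp [mul_assoc]
        _ = f * b * (b * c) * b * f := by rw [k0]
        _ = f * (c * b) * f := by simp [mul_assoc, mul_self_mul h.1 F.hb.1]
        _ = c * b := k1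
    have k3 : b * f * b * (b * c) * (b * f * b) = b * c := by
      calc b * f * b * (b * c) * (b * f * b) = b * (f * (c * b) * f) * b := by
            simp [mul_assoc, mul_self_mul h.1 F.hb.1]
        _ = b * (c * b) * b := by rw [k1]
        _ = b * c := by simp [mul_assoc, hb2]
    rw [eb, k3] at k2
    exact F.nc k2
  have hsub : A ⊆ fixedPerp D x b := fun f hf =>
    ⟨⟨hf.1.1, fun e => hf.1.2 (e ▸ F.hb.2.2.symm), (allb f hf).symm⟩, hf.2⟩
  have := Set.ncard_le_ncard hsub
  rw [F.perp_three C hN ha (F.mem_fixed C hN ha).2.1] at this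
  omega

theorem Five.ten : (fixed D x).ncard = 10 := by
  rw [fixed_count C hN ha F.xa, F.three C hN ha, F.apart_six C hN ha]

theorem Five.card_nor : Nat.card ↥(nor x) = 2400 := by
  haveI : Fact (Nat.Prime 5) := ⟨by norm_num⟩
  have h1 := card_orb (nor x) a
  rw [orb_nor C hN five_sq ha F.ox F.xa, F.ten C hN ha] at h1
  have e : fix (nor x) a = cen a ⊓ nor x := inf_comm _ _
  rw [e, F.cardN] at h1
  omega

theorem Five.card_cent : Nat.card ↥(Subgroup.centralizer ({x} : Set G)) = 600 := by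
  classical
  rw [cent_eq_fix_nor]
  have h1 := card_orb (nor x) x
  rw [F.card_nor C hN ha] at h1
  have he : orb (nor x) x = (fun j => x ^ j) '' ({1, 2, 3, 4} : Set ℕ) := by
    ext y
    constructor
    · rintro ⟨g, hg, rfl⟩
      obtain ⟨i, hi⟩ := mem_powers_iff_mem_zpowers.mpr (conj_mem_of_normalizer hg (Subgroup.mem_zpowers x))
      have hi' : x ^ i = g * x * g⁻¹ := hi
      refine ⟨i % 5, ?_, by show x ^ (i % 5) = _; rw [← F.ox, pow_mod_orderOf]; exact hi'⟩
      have : i % 5 ≠ 0 := fun e0 => by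
        have k : g * x * g⁻¹ = 1 := by rw [← hi', ← pow_mod_orderOf, F.ox, e0, pow_zero]
        have hx1 : x = 1 := by simpa using k
        have := F.ox
        rw [hx1, orderOf_one] at this
        omega
      simp only [Set.mem_insert_iff, Set.mem_singleton_iff]
      omega
    · rintro ⟨j, hj, rfl⟩
      obtain ⟨n, -, -, -, e⟩ := F.npow j (by rcases hj with rfl | rfl | rfl | rfl <;> norm_num)
      have en : n⁻¹ * x * n⁻¹⁻¹ = x ^ j := by
        conv_rhs => rw [show x ^ j = n⁻¹ * (n * x ^ j * n⁻¹) * n by simp [mul_assoc], e]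
        simp
      refine ⟨n⁻¹, mem_normalizer_zpowers ?_, en⟩
      rw [en]
      exact pow_mem (Subgroup.mem_zpowers x) j
  rw [he, Set.InjOn.ncard_image] at h1
  · have h4 : ({1, 2, 3, 4} : Set ℕ).ncard = 4 := by
      rw [Set.ncard_insert_of_notMem (by simp), Set.ncard_insert_of_notMem (by simp),
        Set.ncard_insert_of_notMem (by simp), Set.ncard_singleton]
    rw [h4] at h1
    omega
  · intro i hi j hj e
    have hi' : i < 5 := by rcases hi with rfl | rfl | rfl | rfl <;> norm_num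
    have hj' : j < 5 := by rcases hj with rfl | rfl | rfl | rfl <;> norm_num
    exact pow_injOn_Iio_orderOf (by rw [F.ox]; exact hi') (by rw [F.ox]; exact hj') e

end Cfsg.Agent.Grp.M22Local
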