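import Cfsg.Agent.Lib.Grp.M22Local.FiveFixed
import Cfsg.Agent.Lib.Spor.ThreeTransFiveHom

/-! The normaliser of a subgroup of order five. -/

set_option autoImplicit false
set_option linter.style.haveILetI false
set_option linter.unusedSectionVars false

namespace Cfsg.Agent.Grp.M22Local

open Cfsg Cfsg.Agent.Spor.ThreeTrans Cfsg.Agent.Block.FischerTypes

variable {G : Type*} [Group G] [Finite G] {D : Set G}

theorem conj_yOf (m x u : G) : yOf (m * x * m⁻¹) (m * u * m⁻¹) = m * yOf x u * m⁻¹ := by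
  simp only [yOf, conj_pow]
  simp [mul_assoc]

/-- A path of four members commuting with `x`, all commuting with a further member. -/
structure Path (D : Set G) (x a b c g u : G) : Prop where
  hg : g ∈ fixed D x
  ga : ¬ Commute g a
  gb : Commute g b
  gc : ¬ Commute c g
  hu : u ∈ D
  ua : Commute a u
  ub : Commute b u
  uc : Commute c u
  ug : Commute g u

variable (C : M22.Ctx D) (hN : Numbered D) {a x b c : G} (ha : a ∈ D) (F : Five D a x b c)
include C hN ha F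

theorem Five.exists_path : ∃ g u, Path D x a b c g u := by
  classical
  haveI : Fact (Nat.Prime 5) := ⟨by norm_num⟩
  have h := C.set.cls
  have hb := F.hb
  have hab : a ∈ perp D b := M22.perp_symm ha hb
  obtain ⟨k, hka, hkb⟩ := pair_conj C.set ha hb hb.1 hab
  have h1 : Subgroup.zpowers (k * x * k⁻¹) ≤ fix (cen a) b := by
    refine Subgroup.zpowers_le.mpr (mem_fix.mpr ⟨mem_cen.mpr ?_, ?_⟩)
    · rw [← hkb, commute_conj_iff]; exact F.xb.symm
    · rw [← hka, commute_conj_iff]; exact F.xa.symm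
  have h2 : Subgroup.zpowers x ≤ fix (cen a) b :=
    Subgroup.zpowers_le.mpr (mem_fix.mpr ⟨mem_cen.mpr F.xa.symm, F.xb.symm⟩)
  obtain ⟨l, hl, e⟩ := conj_exact (fix (cen a) b)
    (fun hd => five_sq (by rw [← card_cen C hN ha]; exact hd.trans (Subgroup.card_dvd_of_le inf_le_left)))
    (X := Subgroup.zpowers (k * x * k⁻¹)) (Y := Subgroup.zpowers x)
    (by rw [Nat.card_zpowers]; exact (MulEquiv.orderOf_eq (MulAut.conj k) x).trans F.ox)
    (by rw [Nat.card_zpowers, F.ox]) h1 h2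
  obtain ⟨hla, hlb⟩ := mem_fix.mp hl
  rw [map_zpowers] at e
  obtain ⟨j, hj⟩ := mem_powers_iff_mem_zpowers.mpr
    (e ▸ Subgroup.mem_zpowers (l * (k * x * k⁻¹) * l⁻¹) : l * (k * x * k⁻¹) * l⁻¹ ∈ Subgroup.zpowers x)
  have hj' : x ^ j = l * (k * x * k⁻¹) * l⁻¹ := hj
  have hj5 : ¬ 5 ∣ j := by
    rintro ⟨i, rfl⟩
    rw [pow_mul, ← F.ox, pow_orderOf_eq_one, one_pow] at hj'
    have hx1 : x = 1 := by simpa using hj'.symm
    have := F.ox
    rw [hx1, orderOf_one] at this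
    omega
  obtain ⟨n, hna, hnb, -, hn⟩ := F.npow j hj5
  set m := n * l * k with hm
  have hmx : m * x * m⁻¹ = x := by
    rw [hm, show n * l * k * x * (n * l * k)⁻¹ = n * (l * (k * x * k⁻¹) * l⁻¹) * n⁻¹ by simp [mul_assoc],
      ← hj', hn]
  have hma : m * a * m⁻¹ = b := by
    rw [hm, show n * l * k * a * (n * l * k)⁻¹ = n * (l * (k * a * k⁻¹) * l⁻¹) * n⁻¹ by simp [mul_assoc],
      hka, conj_fix hlb, conj_fix hnb]
  have hmb : m * b * m⁻¹ = a := by
    rw [hm, show n * l * k * b * (n * l * k)⁻¹ = n * (l * (k * b * k⁻¹) * l⁻¹) * n⁻¹ by simp [mul_assoc],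
      hkb, conj_fix (mem_cen.mp hla), conj_fix hna]
  have hxm : Commute m x := mul_inv_eq_iff_eq_mul.mp hmx
  obtain ⟨u, hu, hub, hbu, hcu, hy⟩ := F.seed
  set g := m * c * m⁻¹ with hg
  set v := m * u * m⁻¹ with hv
  have hgD : g ∈ fixed D x := ⟨conj_mem h m F.hc.1, comm_conj_fixed hxm F.xc⟩
  have hgb : Commute g b := by rw [hg, ← hma, commute_conj_iff]; exact F.hc.2.2.symm
  have hga : ¬ Commute g a := by rw [hg, ← hmb, commute_conj_iff]; exact fun k => F.nc k.symm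
  have hvb : Commute b v := by rw [hv, ← hma, commute_conj_iff]; exact hu.2.2
  have hva : Commute a v := by rw [hv, ← hmb, commute_conj_iff]; exact hbu
  have hvg : Commute g v := by rw [hg, hv, commute_conj_iff]; exact hcu
  have hvD : v ∈ D := conj_mem h m hu.1
  have hvc : Commute c v := by
    refine F.path v ⟨hvD, fun e => ?_, hva⟩ hvb (fun e => ?_) ?_
    · exact hub (mul_left_cancel (mul_right_cancel (e.trans hmb.symm)))
    · exact hu.2.1 (mul_left_cancel (mul_right_cancel (e.trans hma.symm)))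
    · calc yOf x v ^ 6 = (m * yOf x u * m⁻¹) ^ 6 := by rw [← conj_yOf, hmx]
        _ = m * yOf x u ^ 6 * m⁻¹ := conj_pow
        _ = x := by rw [hy, hmx]
  refine ⟨g, v, hgD, hga, hgb, fun hgc => ?_, hvD, hva, hvb, hvc, hvg⟩
  -- otherwise the ten members fall apart
  obtain ⟨mfa, mfb, mfc⟩ := F.mem_fixed C hN ha
  obtain ⟨d1, d2, d3, -, -⟩ := F.tri_ne C hN ha
  set c' := c * b * c with hc'
  have hcinv : c⁻¹ = c := inv_eq h.1 F.hc.1
  have hc'eq : c' = c * b * c⁻¹ := by rw [hcinv]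
  have mfc' : c' ∈ fixed D x := hc'eq ▸ ⟨conj_mem h c F.hb.1, comm_conj_fixed F.xc F.xb⟩
  have ac' : Commute a c' := hc'eq ▸ (F.hc.2.2.mul_right F.hb.2.2).mul_right F.hc.2.2.inv_right
  have gc' : Commute g c' := hc'eq ▸ (hgc.symm.mul_right hgb).mul_right hgc.symm.inv_right
  set g' := a * g * a⁻¹ with hg'
  have g'b : Commute g' b := (F.hb.2.2.mul_left hgb).mul_left F.hb.2.2.inv_left
  have g'c : Commute g' c := (F.hc.2.2.mul_left hgc.symm).mul_left F.hc.2.2.inv_left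
  have g'c' : Commute g' c' := (ac'.mul_left gc').mul_left ac'.inv_left
  have mfg' : g' ∈ fixed D x := ⟨conj_mem h a hgD.1, comm_conj_fixed F.xa hgD.2⟩
  have g'a : ¬ Commute g' a := fun k => hga (by
    have k' : Commute (a * g * a⁻¹) (a * a * a⁻¹) := by rw [conj_fix (Commute.refl a)]; exact k
    exact (commute_conj_iff a g a).mp k')
  have hne : g' ≠ g := fun k => hga (mul_inv_eq_iff_eq_mul.mp k).symm
  have pcol : ∀ d ∈ fixed D x, Commute d b → Commute d c → Commute d c' → d ≠ b → d ≠ c → d ≠ c' →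
      fixedPerp D x d = {b, c, c'} := by
    intro d hd k1 k2 k3 e1 e2 e3
    refine (Set.eq_of_subset_of_ncard_le ?_ ?_ (Set.toFinite _)).symm
    · rintro y (rfl | rfl | rfl)
      exacts [⟨⟨F.hb.1, e1.symm, k1⟩, F.xb⟩, ⟨⟨F.hc.1, e2.symm, k2⟩, F.xc⟩, ⟨⟨mfc'.1, e3.symm, k3⟩, mfc'.2⟩]
    · rw [F.perp_three C hN ha hd, Set.ncard_eq_three.mpr ⟨_, _, _, d1, d2, d3, rfl⟩]
  have prow : ∀ d ∈ fixed D x, Commute d a → Commute d g → Commute d g' → d ≠ a → d ≠ g → d ≠ g' →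
      fixedPerp D x d = {a, g, g'} := by
    intro d hd k1 k2 k3 e1 e2 e3
    refine (Set.eq_of_subset_of_ncard_le ?_ ?_ (Set.toFinite _)).symm
    · rintro y (rfl | rfl | rfl)
      exacts [⟨⟨ha, e1.symm, k1⟩, F.xa⟩, ⟨⟨hgD.1, e2.symm, k2⟩, hgD.2⟩, ⟨⟨mfg'.1, e3.symm, k3⟩, mfg'.2⟩]
    · rw [F.perp_three C hN ha hd, Set.ncard_eq_three.mpr
        ⟨a, g, g', fun e => hga (e ▸ Commute.refl a), fun e => g'a (e ▸ Commute.refl a), hne.symm, rfl⟩]
  have nb : ∀ {d}, ¬ Commute d a → d ≠ b ∧ d ≠ c ∧ d ≠ c' := fun hd =>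
    ⟨fun e => hd (e ▸ F.hb.2.2.symm), fun e => hd (e ▸ F.hc.2.2.symm), fun e => hd (e ▸ ac'.symm)⟩
  obtain ⟨gne1, gne2, gne3⟩ := nb hga
  obtain ⟨g'ne1, g'ne2, g'ne3⟩ := nb g'a
  have ane : a ≠ b ∧ a ≠ c ∧ a ≠ c' := ⟨F.hb.2.1.symm, F.hc.2.1.symm, fun e => by
    have : Commute c' b → False := fun k => (F.tri_ne C hN ha).2.2.2.1 k.symm
    exact this (e ▸ F.hb.2.2)⟩
  have pA := pcol a mfa F.hb.2.2 F.hc.2.2 ac' ane.1 ane.2.1 ane.2.2
  have pG := pcol g hgD hgb hgc.symm gc' gne1 gne2 gne3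
  have pG' := pcol g' mfg' g'b g'c g'c' g'ne1 g'ne2 g'ne3
  have pB := prow b mfb F.hb.2.2.symm hgb.symm g'b.symm ane.1.symm gne1.symm g'ne1.symm
  have pC := prow c mfc F.hc.2.2.symm hgc g'c.symm ane.2.1.symm gne2.symm g'ne2.symm
  have pC' := prow c' mfc' ac'.symm gc'.symm g'c'.symm ane.2.2.symm gne3.symm g'ne3.symm
  set six : Set G := {a, g, g', b, c, c'} with hsix
  have hsix_le : six.ncard ≤ 6 := by
    refine (Set.ncard_insert_le _ _).trans (Nat.succ_le_succ ?_)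
    refine (Set.ncard_insert_le _ _).trans (Nat.succ_le_succ ?_)
    refine (Set.ncard_insert_le _ _).trans (Nat.succ_le_succ ?_)
    rw [Set.ncard_eq_three.mpr ⟨_, _, _, d1, d2, d3, rfl⟩]
  set R := fixed D x \ six with hR
  have hRcard : 4 ≤ R.ncard := by
    have := Set.le_ncard_sdiff six (fixed D x)
    rw [F.ten C hN ha, ← hR] at this
    omega
  have hclosed : ∀ r ∈ R, fixedPerp D x r ⊆ R \ {r} := by
    intro r hr y hy
    refine ⟨⟨⟨hy.1.1, hy.2⟩, fun hy6 => ?_⟩, fun e => hy.1.2.1 e⟩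
    have hr' : ∀ d, d ∈ six → fixedPerp D x d ⊆ six := by
      intro d hd
      simp only [hsix, Set.mem_insert_iff, Set.mem_singleton_iff] at hd
      rcases hd with rfl | rfl | rfl | rfl | rfl | rfl
      · rw [pA]; rintro z (rfl | rfl | rfl) <;> simp [hsix]
      · rw [pG]; rintro z (rfl | rfl | rfl) <;> simp [hsix]
      · rw [pG']; rintro z (rfl | rfl | rfl) <;> simp [hsix]
      · rw [pB]; rintro z (rfl | rfl | rfl) <;> simp [hsix]
      · rw [pC]; rintro z (rfl | rfl | rfl) <;> simp [hsix]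
      · rw [pC']; rintro z (rfl | rfl | rfl) <;> simp [hsix]
    exact hr.2 (hr' y hy6 ⟨⟨hr.1.1, fun e => hy.1.2.1 e.symm, hy.1.2.2.symm⟩, hr.1.2⟩)
  have hR4 : R.ncard = 4 := by
    by_contra hne4
    -- at most ten members in all
    have hsub : six ⊆ fixed D x := by
      intro z hz
      simp only [hsix, Set.mem_insert_iff, Set.mem_singleton_iff] at hz
      rcases hz with rfl | rfl | rfl | rfl | rfl | rfl <;> assumption
    have h6 : 6 ≤ six.ncard := by
      have h3 : ({a, g, g'} : Set G) ∪ {b, c, c'} ⊆ six := by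
        rintro z ((rfl | rfl | rfl) | (rfl | rfl | rfl)) <;> simp [hsix]
      refine le_trans ?_ (Set.ncard_le_ncard h3 (Set.toFinite _))
      rw [Set.ncard_union_eq, Set.ncard_eq_three.mpr ⟨a, g, g', fun e => hga (e ▸ Commute.refl a),
        fun e => g'a (e ▸ Commute.refl a), hne.symm, rfl⟩, Set.ncard_eq_three.mpr ⟨_, _, _, d1, d2, d3, rfl⟩]
      rw [Set.disjoint_left]
      rintro z (rfl | rfl | rfl) (e | e | e)
      exacts [ane.1 e, ane.2.1 e, ane.2.2 e, gne1 e, gne2 e, gne3 e, g'ne1 e, g'ne2 e, g'ne3 e]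
    have := Set.ncard_sdiff hsub (Set.toFinite _)
    rw [← hR, F.ten C hN ha] at this
    omega
  have hfull : ∀ r ∈ R, fixedPerp D x r = R \ {r} := fun r hr =>
    Set.eq_of_subset_of_ncard_le (hclosed r hr) (by
      rw [F.perp_three C hN ha hr.1, Set.ncard_sdiff_singleton_of_mem hr, hR4]) (Set.toFinite _)
  obtain ⟨r, hr⟩ := Set.nonempty_of_ncard_ne_zero (s := R) (by omega)
  obtain ⟨r1, h1', r2, h2', hne12⟩ := (Set.one_lt_ncard (s := R \ {r})).mp (by
    rw [Set.ncard_sdiff_singleton_of_mem hr, hR4]; norm_num)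
  have k12 : r2 ∈ fixedPerp D x r1 := by
    rw [hfull r1 h1'.1]
    exact ⟨h2'.1, fun e => hne12 (Set.mem_singleton_iff.mp e).symm⟩
  exact F.triangle C hN ha hr.1 (hfull r hr ▸ h1') (hfull r hr ▸ h2') hne12 k12.1.2.2

end Cfsg.Agent.Grp.M22Local
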