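import Cfsg.Agent.Lib.Grp.M22Local.FiveNormal

/-! The symmetric group and the Frobenius group in the normaliser of a subgroup of order five. -/

set_option autoImplicit false
set_option linter.style.haveILetI false
set_option linter.unusedSectionVars false

namespace Cfsg.Agent.Grp.M22Local

open Cfsg Cfsg.Agent.Spor.ThreeTrans Cfsg.Agent.Block.FischerTypes

variable {G : Type*} [Group G] [Finite G] {D : Set G}

theorem swaps_card : (((Finset.univ : Finset (Fin 5 × Fin 5)).filter fun p => p.1 < p.2).image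
    fun p => Equiv.swap p.1 p.2).card = 10 := by decide +kernel

set_option maxRecDepth 100000 in
theorem perm_centre : ∀ σ : Equiv.Perm (Fin 5), σ * Equiv.swap 0 1 = Equiv.swap 0 1 * σ →
    σ * Equiv.swap 1 2 = Equiv.swap 1 2 * σ → σ * Equiv.swap 2 3 = Equiv.swap 2 3 * σ →
      σ * Equiv.swap 3 4 = Equiv.swap 3 4 * σ → σ = 1 := by decide +kernel

set_option maxRecDepth 100000 in
theorem five_cycle : orderOf (Equiv.swap (0 : Fin 5) 1 * Equiv.swap 1 2 * Equiv.swap 2 3 * Equiv.swap 3 4) = 5 := by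
  haveI : Fact (Nat.Prime 5) := ⟨by norm_num⟩
  exact orderOf_eq_prime (by decide +kernel) (by decide +kernel)

/-- The normal shape for `⟨x⟩`: a Frobenius group times a symmetric group. -/
structure Shape (D : Set G) (x : G) (H F : Subgroup G) (z u : G) : Prop where
  hH : H = Subgroup.closure (fixed D x)
  iso : Nonempty (↥H ≃* Equiv.Perm (Fin 5))
  cardF : Nat.card ↥F = 20
  xF : x ∈ F
  inter : F ⊓ Subgroup.centralizer ({x} : Set G) = Subgroup.zpowers x
  triv : F ⊓ H = ⊥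
  comm : ∀ f ∈ F, ∀ h ∈ H, f * h = h * f
  sup : F ⊔ H = nor x
  zH : z ∈ H
  oz : orderOf z = 5
  hu : u ∈ D
  zu : Commute u z

variable (C : M22.Ctx D) (hN : Numbered D) {a x b c : G} (ha : a ∈ D) (F : Five D a x b c)
include C hN ha F

theorem Five.exists_shape : ∃ (H K : Subgroup G) (z u : G), Shape D x H K z u := by
  classical
  haveI : Fact (Nat.Prime 5) := ⟨by norm_num⟩
  have h := C.set.cls
  obtain ⟨g, u, P⟩ := F.exists_path C hN ha
  have hgb : b ≠ g := fun e => P.ga (e ▸ F.hb.2.2.symm)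
  obtain ⟨φ, hinj, hφ0, hφ1, hφ2, hφ3⟩ := Spor.FiveHom.exists_hom_s5 h.1 F.hb.1 F.hc.1 P.hg.1 ha
    F.nc P.gc P.ga P.gb.symm F.hb.2.2.symm F.hc.2.2.symm hgb
  set H := φ.range with hHdef
  -- the generators
  have hgens : ∀ σ : Equiv.Perm (Fin 5), σ ∈ Subgroup.closure
      ({Equiv.swap 0 1, Equiv.swap 1 2, Equiv.swap 2 3, Equiv.swap 3 4} : Set (Equiv.Perm (Fin 5))) := by
    intro σ
    obtain ⟨w, -, rfl⟩ := Spor.FiveHom.forms_surj σ
    rw [Spor.Rewrite.evalWord]
    refine list_prod_mem fun y hy => ?_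
    obtain ⟨i, -, rfl⟩ := List.mem_map.mp hy
    refine Subgroup.subset_closure ?_
    fin_cases i <;> simp [Spor.FiveHom.gens]
  have hall : ∀ (Q : Subgroup G), b ∈ Q → c ∈ Q → g ∈ Q → a ∈ Q → H ≤ Q := by
    rintro Q qb qc qg qa _ ⟨σ, rfl⟩
    induction hgens σ using Subgroup.closure_induction with
    | mem y hy =>
      rcases hy with rfl | rfl | rfl | rfl
      exacts [hφ0 ▸ qb, hφ1 ▸ qc, hφ2 ▸ qg, hφ3 ▸ qa]
    | one => rw [map_one]; exact one_mem _
    | mul y y' _ _ hy hy' => rw [map_mul]; exact mul_mem hy hy'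
    | inv y _ hy => rw [map_inv]; exact inv_mem hy
  obtain ⟨mfa, mfb, mfc⟩ := F.mem_fixed C hN ha
  have hHcent : H ≤ Subgroup.centralizer ({x} : Set G) :=
    hall _ (Subgroup.mem_centralizer_singleton_iff.mpr F.xb) (Subgroup.mem_centralizer_singleton_iff.mpr F.xc)
      (Subgroup.mem_centralizer_singleton_iff.mpr P.hg.2) (Subgroup.mem_centralizer_singleton_iff.mpr F.xa)
  -- the transpositions
  have hHeq : H = Subgroup.closure (fixed D x) := by
    refine le_antisymm (hall _ (Subgroup.subset_closure mfb) (Subgroup.subset_closure mfc)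
      (Subgroup.subset_closure P.hg) (Subgroup.subset_closure mfa)) ((Subgroup.closure_le _).mpr ?_)
    set T := ((Finset.univ : Finset (Fin 5 × Fin 5)).filter fun p => p.1 < p.2).image
      fun p => Equiv.swap p.1 p.2 with hT
    have hsub : (↑(T.image φ) : Set G) ⊆ fixed D x := by
      intro y hy
      rw [Finset.mem_coe, Finset.mem_image] at hy
      obtain ⟨σ, hσ, rfl⟩ := hy
      rw [hT, Finset.mem_image] at hσ
      obtain ⟨⟨i, j⟩, hij, rfl⟩ := hσ
      obtain ⟨τ, hτ⟩ := isConj_iff.mp (Equiv.Perm.isConj_swap (by decide : (0 : Fin 5) ≠ 1)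
        (Finset.mem_filter.mp hij).2.ne)
      rw [← hτ, map_mul, map_mul, map_inv, hφ0]
      exact ⟨conj_mem h _ F.hb.1,
        comm_conj_fixed (Subgroup.mem_centralizer_singleton_iff.mp (hHcent ⟨τ, rfl⟩)) F.xb⟩
    have heq := Set.eq_of_subset_of_ncard_le hsub (by
      rw [F.ten C hN ha, Set.ncard_coe_finset, Finset.card_image_of_injective _ hinj, hT, swaps_card])
      (Set.toFinite _)
    rw [← heq]
    intro y hy
    rw [Finset.mem_coe, Finset.mem_image] at hy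
    obtain ⟨σ, -, rfl⟩ := hy
    exact ⟨σ, rfl⟩
  have hcardH : Nat.card ↥H = 120 := by
    rw [hHdef, ← Nat.card_congr (MonoidHom.ofInjective hinj).toEquiv, Nat.card_perm, Nat.card_fin]
    rfl
  -- the complement
  set K := fix (fix (fix (cen a ⊓ nor x) b) c) g with hK
  have hNimg : ∀ n ∈ cen a ⊓ nor x, ∀ d ∈ fixedPerp D x a, n * d * n⁻¹ ∈ fixedPerp D x a := fun n hn d hd =>
    ⟨perp_conj' h (mem_cen.mp hn.1) hd.1, comm_nor hn.2 hd.2⟩
  obtain ⟨d1, d2, d3, -, -⟩ := F.tri_ne C hN ha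
  have k1 : 240 ≤ 3 * Nat.card ↥(fix (cen a ⊓ nor x) b) := by
    have := card_le_mul (cen a ⊓ nor x) b (S := fixedPerp D x a)
      fun n hn => hNimg n hn b ⟨F.hb, F.xb⟩
    rwa [F.three C hN ha, F.cardN] at this
  have k2 : Nat.card ↥(fix (cen a ⊓ nor x) b) ≤ 2 * Nat.card ↥(fix (fix (cen a ⊓ nor x) b) c) := by
    have := card_le_mul (fix (cen a ⊓ nor x) b) c (S := fixedPerp D x a \ {b}) fun n hn => by
      obtain ⟨hnN, hnb⟩ := mem_fix.mp hn
      refine ⟨hNimg n hnN c ⟨F.hc, F.xc⟩, fun e => d1 ?_⟩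
      have e' : n * c * n⁻¹ = n * b * n⁻¹ := by rw [Set.mem_singleton_iff.mp e, conj_fix hnb]
      exact (mul_left_cancel (mul_right_cancel e')).symm
    rwa [Set.ncard_sdiff_singleton_of_mem (show b ∈ fixedPerp D x a from ⟨F.hb, F.xb⟩), F.three C hN ha] at this
  have k3 : Nat.card ↥(fix (fix (cen a ⊓ nor x) b) c) ≤ 2 * Nat.card ↥K := by
    have hgne : g ≠ a := fun e => P.ga (e ▸ Commute.refl _)
    have hab : a ∈ fixedPerp D x b := ⟨⟨ha, F.hb.2.1.symm, F.hb.2.2.symm⟩, F.xa⟩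
    have := card_le_mul (fix (fix (cen a ⊓ nor x) b) c) g (S := fixedPerp D x b \ {a}) fun n hn => by
      obtain ⟨hn1, hnc⟩ := mem_fix.mp hn
      obtain ⟨hnN, hnb⟩ := mem_fix.mp hn1
      refine ⟨⟨perp_conj' h hnb ⟨P.hg.1, fun e => hgb e.symm, P.gb.symm⟩, comm_nor hnN.2 P.hg.2⟩, fun e => hgne ?_⟩
      have e' : n * g * n⁻¹ = n * a * n⁻¹ := by rw [Set.mem_singleton_iff.mp e, conj_fix (mem_cen.mp hnN.1)]
      exact mul_left_cancel (mul_right_cancel e')
    rwa [Set.ncard_sdiff_singleton_of_mem hab, F.perp_three C hN ha mfb] at this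
  have memK : ∀ {n}, n ∈ K → (((Commute n a ∧ n ∈ nor x) ∧ Commute n b) ∧ Commute n c) ∧ Commute n g := by
    intro n hn
    rw [hK, mem_fix, mem_fix, mem_fix, Subgroup.mem_inf, mem_cen] at hn
    exact hn
  have hKnor : K ≤ nor x := fun n hn => (memK hn).1.1.1.2
  have hHnor : H ≤ nor x := fun n hn => nor_of_commute (Subgroup.mem_centralizer_singleton_iff.mp (hHcent hn))
  have hcomm : ∀ f ∈ K, ∀ y ∈ H, f * y = y * f := by
    intro f hf y hy
    obtain ⟨⟨⟨⟨fa, -⟩, fb⟩, fc⟩, fg⟩ := memK hf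
    exact (Subgroup.mem_centralizer_singleton_iff.mp (hall (Subgroup.centralizer {f})
      (Subgroup.mem_centralizer_singleton_iff.mpr fb.symm.eq) (Subgroup.mem_centralizer_singleton_iff.mpr fc.symm.eq)
      (Subgroup.mem_centralizer_singleton_iff.mpr fg.symm.eq) (Subgroup.mem_centralizer_singleton_iff.mpr fa.symm.eq)
      hy)).symm
  have htriv : K ⊓ H = ⊥ := by
    rw [Subgroup.eq_bot_iff_forall]
    rintro y ⟨hyK, hyH⟩
    obtain ⟨σ, rfl⟩ := hyH
    obtain ⟨⟨⟨⟨fa, -⟩, fb⟩, fc⟩, fg⟩ := memK hyK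
    have key : ∀ {τ : Equiv.Perm (Fin 5)} {w : G}, φ τ = w → Commute (φ σ) w → σ * τ = τ * σ := by
      intro τ w hw hc
      apply hinj
      rw [map_mul, map_mul, hw]
      exact hc.eq
    rw [perm_centre σ (key hφ0 fb) (key hφ1 fc) (key hφ2 fg) (key hφ3 fa), map_one]
  -- sizes of products
  have hprod : ∀ (A Q : Subgroup G), A ≤ K → A ≤ Q → H ≤ Q → Nat.card ↥A * 120 ≤ Nat.card ↥Q := by
    intro A Q hAK hAQ hHQ
    rw [← hcardH, ← Nat.card_prod]
    refine Nat.card_le_card_of_injective (fun p : ↥A × ↥H => (⟨p.1 * p.2, mul_mem (hAQ p.1.2) (hHQ p.2.2)⟩ : ↥Q)) ?_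
    rintro ⟨p, q⟩ ⟨p', q'⟩ e
    have e' : (p : G) * q = p' * q' := congrArg Subtype.val e
    have hm : (p' : G)⁻¹ * p ∈ K ⊓ H := by
      refine Subgroup.mem_inf.mpr ⟨mul_mem (inv_mem (hAK p'.2)) (hAK p.2), ?_⟩
      have : (p' : G)⁻¹ * p = q' * (q : G)⁻¹ := by
        rw [eq_mul_inv_iff_mul_eq, mul_assoc, e', inv_mul_cancel_left]
      rw [this]
      exact mul_mem q'.2 (inv_mem q.2)
    rw [htriv, Subgroup.mem_bot, inv_mul_eq_one] at hm
    rw [hm] at e'
    exact Prod.ext (Subtype.ext hm.symm) (Subtype.ext (mul_left_cancel e'))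
  have cardK : Nat.card ↥K = 20 := by
    have := hprod K (nor x) le_rfl hKnor hHnor
    rw [F.card_nor C hN ha] at this
    omega
  have hxK : x ∈ K := by
    rw [hK, mem_fix, mem_fix, mem_fix, Subgroup.mem_inf, mem_cen]
    exact ⟨⟨⟨⟨F.xa.symm, nor_of_commute (Commute.refl x)⟩, F.xb.symm⟩, F.xc.symm⟩, P.hg.2.symm⟩
  have hsup : K ⊔ H = nor x := by
    refine Subgroup.eq_of_le_of_card_ge (sup_le hKnor hHnor) ?_
    have := hprod K (K ⊔ H) le_rfl le_sup_left le_sup_right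
    rw [cardK] at this
    rw [F.card_nor C hN ha]
    exact this
  have hinter : K ⊓ Subgroup.centralizer ({x} : Set G) = Subgroup.zpowers x := by
    refine (Subgroup.eq_of_le_of_card_ge (Subgroup.zpowers_le.mpr
      (Subgroup.mem_inf.mpr ⟨hxK, Subgroup.mem_centralizer_singleton_iff.mpr rfl⟩)) ?_).symm
    have := hprod (K ⊓ Subgroup.centralizer ({x} : Set G)) (Subgroup.centralizer ({x} : Set G)) inf_le_left
      inf_le_right hHcent
    rw [F.card_cent C hN ha] at this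
    rw [Nat.card_zpowers, F.ox]
    omega
  refine ⟨H, K, φ (Equiv.swap 0 1 * Equiv.swap 1 2 * Equiv.swap 2 3 * Equiv.swap 3 4), u,
    hHeq, ⟨(MonoidHom.ofInjective hinj).symm⟩, cardK, hxK, hinter, htriv, hcomm, hsup, ⟨_, rfl⟩, ?_, P.hu, ?_⟩
  · rw [orderOf_injective φ hinj, five_cycle]
  · rw [map_mul, map_mul, map_mul, hφ0, hφ1, hφ2, hφ3]
    exact ((P.ub.symm.mul_right P.uc.symm).mul_right P.ug.symm).mul_right P.ua.symm

end Cfsg.Agent.Grp.M22Local
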