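import Cfsg.Agent.Lib.Grp.M22Local.Common

/-! The configuration of an element of order seven in the centraliser of a member. -/

set_option autoImplicit false
set_option linter.style.haveILetI false
set_option linter.unusedSectionVars false

namespace Cfsg.Agent.Grp.M22Local

open Cfsg Cfsg.Agent.Spor.ThreeTrans Cfsg.Agent.Block.FischerTypes Cfsg.Agent.Block.FischerTypes.U6Code

variable {G : Type*} [Group G] [Finite G] {D : Set G}

/-- What is needed about an element `x` of order seven commuting with `a`. -/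
structure Seven (D : Set G) (a x : G) : Prop where
  ox : orderOf x = 7
  xa : Commute a x
  perp0 : fixedPerp D x a = ∅
  cardC : Nat.card ↥(fix (cen a) x) = 14
  cardN : Nat.card ↥(cen a ⊓ nor x) = 84

theorem seven_sq : ¬ 7 ^ 2 ∣ 2 * 9196830720 := by norm_num

theorem base7_six : base7.length = 6 := by decide +kernel

variable {a : G}

/-- Powers of a power of the element of a word act as the repeated word. -/
theorem pow_conj_rep (h : IsThreeTranspositionClass D) (M : Model D a) {w : List ℕ}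
    (hw : w.all isPt = true) {p : ℕ} (hz : el M w ^ p ∈ Subgroup.zpowers a) (i : ℕ) {c : ℕ}
    (hc : isPt c = true) : isPt (act (rep i w) c) = true ∧
      (el M w ^ (p + 1)) ^ i * M.pt c * ((el M w ^ (p + 1)) ^ i)⁻¹ = M.pt (act (rep i w) c) := by
  obtain ⟨j, hj⟩ := Subgroup.mem_zpowers_iff.mp hz
  obtain ⟨h1, h2⟩ := el_conj h M (rep_all i hw) hc
  refine ⟨h1, ?_⟩
  have hcom : Commute ((el M w ^ p) ^ i) (M.pt c) := (hj ▸ (Commute.zpow_left (M.mem c hc).2.2 j)).pow_left i
  rw [← pow_mul, show (p + 1) * i = i + p * i by ring, pow_add, mul_inv_rev, pow_mul,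
    show el M w ^ i * (el M w ^ p) ^ i * M.pt c * (((el M w ^ p) ^ i)⁻¹ * (el M w ^ i)⁻¹) =
      el M w ^ i * ((el M w ^ p) ^ i * M.pt c * ((el M w ^ p) ^ i)⁻¹) * (el M w ^ i)⁻¹ by simp [mul_assoc],
    hcom.eq, mul_inv_cancel_right, ← el_rep, h2]

theorem exists_seven (h : IsThreeTranspositionClass D) (M : Model D a) (ha : a ∈ D)
    (hcard : Nat.card ↥(cen a) = 2 * 9196830720) : Seven D a (el M w7 ^ (7 + 1)) := by
  classical
  haveI : Fact (Nat.Prime 7) := ⟨by norm_num⟩
  have hp := seven_pts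
  simp only [Bool.and_eq_true] at hp
  obtain ⟨⟨pw, pn⟩, -⟩ := hp
  have hbp : ∀ q ∈ base7, isPt q = true := by
    have : (base7.all isPt) = true := by decide +kernel
    exact List.all_eq_true.mp this
  have pb : isPt b0 = true := by decide +kernel
  have hz : el M w7 ^ 7 ∈ Subgroup.zpowers a := by
    refine rigid h M ha hcard chain7_ok chain7_mult ((el_commute M pw).pow_left 7) fun q hq => ?_
    rw [← el_rep]
    exact fixB_commute h M (rep_all 7 pw) hbp seven_pow hq
  have h2 := sq_of_mem h ha hz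
  set x := el M w7 ^ (7 + 1) with hxdef
  have hxa : Commute x a := (el_commute M pw).pow_left _
  have hx7 : x ^ 7 = 1 := by
    rw [hxdef, ← pow_mul, show (7 + 1) * 7 = 7 * (2 * 4) by norm_num, pow_mul, pow_mul, h2, one_pow]
  have hpow : ∀ (i : ℕ) {c : ℕ}, isPt c = true → isPt (act (rep i w7) c) = true ∧
      x ^ i * M.pt c * (x ^ i)⁻¹ = M.pt (act (rep i w7) c) := fun i _ hc => pow_conj_rep h M pw hz i hc
  have hact : ∀ {c : ℕ}, isPt c = true → x * M.pt c * x⁻¹ = M.pt (act w7 c) := by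
    intro c hc
    simpa [rep] using (hpow 1 hc).2
  have nofix : ∀ {c : ℕ}, isPt c = true → ¬ Commute (M.pt c) x := by
    intro c hc k
    have e : M.pt (act w7 c) = M.pt c := by rw [← hact hc, ← k.eq, mul_inv_cancel_right]
    have k' := List.all_eq_true.mp seven_fixed c (mem_ptList.mpr hc)
    rw [M.inj _ _ (el_conj h M pw hc).1 hc e] at k'
    simp at k'
  have hox : orderOf x = 7 := by
    refine orderOf_eq_prime hx7 fun e => ?_
    exact nofix pb (by rw [e]; exact Commute.one_right _)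
  have hperp : fixedPerp D x a = ∅ := by
    rw [Set.eq_empty_iff_forall_notMem]
    rintro d ⟨hd, hdx⟩
    obtain ⟨q, hq, rfl⟩ := M.surj d hd
    exact nofix hq hdx
  set C := fix (cen a) x with hC
  have memC : ∀ {g}, g ∈ C ↔ Commute g a ∧ Commute g x := fun {g} => by rw [hC, mem_fix, mem_cen]
  -- the upper bound
  have hS : ∀ g ∈ C, g * M.pt b0 * g⁻¹ ∈ (↑((ptList.filter fun p => adj p (act w7 p) &&
      !(adj p (act (rep 2 w7) p)) && adj p (act (rep 3 w7) p)).toFinset.image M.pt) : Set G) := by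
    intro g hg
    obtain ⟨hga, hgx⟩ := memC.mp hg
    obtain ⟨q, hq, hq'⟩ := M.surj _ (perp_conj' h hga (M.mem b0 pb))
    rw [Finset.mem_coe, Finset.mem_image]
    refine ⟨q, List.mem_toFinset.mpr (List.mem_filter.mpr ⟨mem_ptList.mpr hq, ?_⟩), hq'⟩
    have mv : ∀ i, adj q (act (rep i w7) q) = adj b0 (act (rep i w7) b0) := by
      intro i
      obtain ⟨i1, i2⟩ := hpow i hq
      obtain ⟨j1, j2⟩ := hpow i pb
      rw [Bool.eq_iff_iff, ← M.comm _ _ hq i1, ← M.comm _ _ pb j1, ← i2, ← j2, hq',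
        show x ^ i * (g * M.pt b0 * g⁻¹) * (x ^ i)⁻¹ = (x ^ i * g) * M.pt b0 * (x ^ i * g)⁻¹ by simp [mul_assoc],
        (hgx.pow_right i).symm.eq,
        show g * x ^ i * M.pt b0 * (g * x ^ i)⁻¹ = g * (x ^ i * M.pt b0 * (x ^ i)⁻¹) * g⁻¹ by simp [mul_assoc],
        commute_conj_iff]
    have m1 := mv 1
    simp only [rep, List.append_nil] at m1
    rw [m1, mv 2, mv 3]
    exact seven_base
  have hfix : Nat.card ↥(fix C (M.pt b0)) ≤ 2 := by
    rw [← h.1.1 a ha, ← Nat.card_zpowers]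
    refine Subgroup.card_le_of_le fun g hg => ?_
    obtain ⟨hgC, hgb⟩ := mem_fix.mp hg
    obtain ⟨hga, hgx⟩ := memC.mp hgC
    refine rigid h M ha hcard chain7_ok chain7_mult hga fun q hq => ?_
    obtain ⟨i, hi, rfl⟩ := List.getElem_of_mem (show q ∈ base7 from hq)
    have hi6 : i < 6 := base7_six ▸ hi
    have k := Nat.eq_of_beq_eq_true (List.all_eq_true.mp seven_orbit i (List.mem_range.mpr hi6))
    rw [List.getD_eq_getElem _ _ hi] at k
    rw [← k, ← (hpow i pb).2]
    exact ((hgx.pow_right i).mul_right hgb).mul_right (hgx.pow_right i).inv_right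
  have u1 : Nat.card ↥C ≤ 21 * 2 := by
    refine (card_le_mul C (M.pt b0) hS).trans (Nat.mul_le_mul ?_ hfix)
    rw [Set.ncard_coe_finset]
    exact Finset.card_image_le.trans ((List.toFinset_card_le _).trans_eq seven_class)
  have l1 : 14 ∣ Nat.card ↥C := by
    refine (Nat.Coprime.mul_dvd_of_dvd_of_dvd (by norm_num : Nat.Coprime 2 7) ?_ ?_)
    · have hm : a ∈ C := memC.mpr ⟨Commute.refl a, hxa.symm⟩
      rw [← h.1.1 a ha, ← Subgroup.orderOf_mk a hm]
      exact orderOf_dvd_natCard _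
    · have hm : x ∈ C := memC.mpr ⟨hxa, Commute.refl x⟩
      rw [← hox, ← Subgroup.orderOf_mk x hm]
      exact orderOf_dvd_natCard _
  -- the normaliser
  let n := el M n7
  have hna : Commute n a := el_commute M pn
  have hnx : n * x * n⁻¹ = x ^ 3 := by
    have k1 : Commute (n⁻¹ * x ^ 3 * n) a := (hna.inv_left.mul_left (hxa.pow_left 3)).mul_left hna
    have k2 : (n⁻¹ * x ^ 3 * n) ^ 7 = 1 := by
      have := conj_pow (i := 7) (a := n⁻¹) (b := x ^ 3)
      rw [inv_inv] at this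
      rw [this, ← pow_mul, show 3 * 7 = 7 * 3 by norm_num, pow_mul, hx7, one_pow]
      simp
    have e : x = n⁻¹ * x ^ 3 * n := by
      refine eq_of_act h M ha hcard chain7_ok chain7_mult hxa k1 (fun q hq => ?_) (n := 7) (by decide) hx7 k2
      have hqp := hbp q hq
      have hqn := (el_conj h M pn hqp).1
      have k := Nat.eq_of_beq_eq_true (List.all_eq_true.mp seven_norm q hq)
      have e1 : n * (x * M.pt q * x⁻¹) * n⁻¹ = x ^ 3 * (n * M.pt q * n⁻¹) * (x ^ 3)⁻¹ := by
        rw [hact hqp, (el_conj h M pn (el_conj h M pw hqp).1).2, (el_conj h M pn hqp).2, (hpow 3 hqn).2, k]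
      rw [show n⁻¹ * x ^ 3 * n * M.pt q * (n⁻¹ * x ^ 3 * n)⁻¹ =
        n⁻¹ * (x ^ 3 * (n * M.pt q * n⁻¹) * (x ^ 3)⁻¹) * n by simp [mul_assoc], ← e1]
      simp [mul_assoc]
    conv_lhs => rw [e]
    simp [mul_assoc]
  have npow : ∀ k : ℕ, n ^ k * x * (n ^ k)⁻¹ = x ^ 3 ^ k := by
    intro k
    induction k with
    | zero => simp
    | succ k ih =>
      rw [pow_succ n, mul_inv_rev, show n ^ k * n * x * (n⁻¹ * (n ^ k)⁻¹) =
        n ^ k * (n * x * n⁻¹) * (n ^ k)⁻¹ by simp [mul_assoc], hnx, ← conj_pow, ih, ← pow_mul, pow_succ]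
  set N := cen a ⊓ nor x with hN
  have horb : orb N x = (fun j => x ^ j) '' ↑(Finset.Icc 1 6) := by
    ext y
    constructor
    · rintro ⟨g, hg, rfl⟩
      obtain ⟨i, hi⟩ := mem_powers_iff_mem_zpowers.mpr (conj_mem_of_normalizer hg.2 (Subgroup.mem_zpowers x))
      have hi' : x ^ i = g * x * g⁻¹ := hi
      refine ⟨i % 7, ?_, by show x ^ (i % 7) = _; rw [← hox, pow_mod_orderOf]; exact hi'⟩
      have : i % 7 ≠ 0 := fun e => by
        have k : g * x * g⁻¹ = 1 := by rw [← hi', ← pow_mod_orderOf, hox, e, pow_zero]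
        have hx1 : x = 1 := by simpa using k
        rw [hx1, orderOf_one] at hox
        omega
      rw [Finset.coe_Icc, Set.mem_Icc]
      omega
    · rintro ⟨j, hj, rfl⟩
      rw [Finset.mem_coe, Finset.mem_Icc] at hj
      obtain ⟨k, hk⟩ : ∃ k, 3 ^ k % 7 = j := by
        have : j = 1 ∨ j = 2 ∨ j = 3 ∨ j = 4 ∨ j = 5 ∨ j = 6 := by omega
        rcases this with rfl | rfl | rfl | rfl | rfl | rfl
        exacts [⟨0, rfl⟩, ⟨2, rfl⟩, ⟨1, rfl⟩, ⟨4, rfl⟩, ⟨5, rfl⟩, ⟨3, rfl⟩]
      have e : n ^ k * x * (n ^ k)⁻¹ = x ^ j := by rw [npow, ← pow_mod_orderOf x (3 ^ k), hox, hk]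
      exact ⟨n ^ k, Subgroup.mem_inf.mpr ⟨mem_cen.mpr (hna.pow_left k),
        mem_normalizer_zpowers (e ▸ pow_mem (Subgroup.mem_zpowers x) j)⟩, e⟩
  have hfixN : fix N x = C := by
    ext g
    rw [mem_fix, hN, Subgroup.mem_inf, mem_cen, memC]
    exact ⟨fun k => ⟨k.1.1, k.2⟩, fun k => ⟨⟨k.1, nor_of_commute k.2⟩, k.2⟩⟩
  have hcN : 6 * Nat.card ↥C = Nat.card ↥N := by
    rw [← card_orb N x, hfixN, horb, Set.InjOn.ncard_image, Set.ncard_coe_finset, Nat.card_Icc]
    intro i hi j hj e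
    rw [Finset.mem_coe, Finset.mem_Icc] at hi hj
    exact pow_injOn_Iio_orderOf (show i < orderOf x by omega) (show j < orderOf x by omega) e
  obtain ⟨m, hm, hmN⟩ := index_modEq (cen a) (by rw [hcard]; exact seven_sq) (X := Subgroup.zpowers x)
    (by rw [Nat.card_zpowers, hox]) (Subgroup.zpowers_le.mpr (mem_cen.mpr hxa))
  have hmN' : m * Nat.card ↥N = 2 * 9196830720 := hmN.trans hcard
  obtain ⟨k, hk⟩ := l1
  have hc14 : Nat.card ↥C = 14 := by
    rw [← hcN, hk] at hmN'
    rw [Nat.ModEq] at hm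
    have hk3 : k ≤ 3 := by omega
    interval_cases k <;> omega
  exact ⟨hox, hxa.symm, hperp, hc14, by rw [← hN, ← hcN, hc14]⟩

end Cfsg.Agent.Grp.M22Local
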