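import Cfsg.Agent.Lib.Grp.M22Local.SevenShape

/-! The symmetric group and the Frobenius group in the normaliser of a subgroup of order seven. -/

set_option autoImplicit false
set_option linter.style.haveILetI false
set_option linter.unusedSectionVars false

namespace Cfsg.Agent.Grp.M22Local

open Cfsg Cfsg.Agent.Spor.ThreeTrans Cfsg.Agent.Block.FischerTypes

variable {G : Type*} [Group G] [Finite G] {D : Set G}

/-- The six elements of the group generated by two members that do not commute. -/
theorem pair_closure (h : IsThreeTranspositionSet D) {a f : G} (ha : a ∈ D) (hf : f ∈ D)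
    (hn : ¬ Commute f a) {y : G} (hy : y ∈ Subgroup.closure ({a, f} : Set G)) :
    y ∈ ({1, a, f, a * f, f * a, a * f * a} : Set G) := by
  have hbr : a * f * a = f * a * f := braid h ha hf fun k => hn k.symm
  have ea := mul_self h ha
  have ef := mul_self h hf
  induction hy using Subgroup.closure_induction_right with
  | one => exact Or.inl rfl
  | mul_right p hp y hy ih =>
    simp only [Set.mem_insert_iff, Set.mem_singleton_iff] at hy ih ⊢
    rcases hy with rfl | rfl <;> rcases ih with rfl | rfl | rfl | rfl | rfl | rfl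
    · simp
    · simp [ea]
    · simp
    · simp [hbr]
    · simp [mul_assoc, ea]
    · simp [mul_assoc, ea]
    · simp
    · simp
    · simp [ef]
    · simp [mul_assoc, ef]
    · simp [hbr]
    · simp [hbr, mul_assoc, ef]
  | mul_inv_cancel p hp y hy ih =>
    simp only [Set.mem_insert_iff, Set.mem_singleton_iff] at hy ih ⊢
    rcases hy with rfl | rfl
    · rw [inv_eq h ha]
      rcases ih with rfl | rfl | rfl | rfl | rfl | rfl
      · simp
      · simp [ea]
      · simp
      · simp [hbr]
      · simp [mul_assoc, ea]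
      · simp [mul_assoc, ea]
    · rw [inv_eq h hf]
      rcases ih with rfl | rfl | rfl | rfl | rfl | rfl
      · simp
      · simp
      · simp [ef]
      · simp [mul_assoc, ef]
      · simp [hbr]
      · simp [hbr, mul_assoc, ef]

/-- Only the identity of that group commutes with both members. -/
theorem pair_centre (h : IsThreeTranspositionSet D) {a f : G} (ha : a ∈ D) (hf : f ∈ D)
    (hn : ¬ Commute f a) {y : G} (hy : y ∈ Subgroup.closure ({a, f} : Set G)) (h1 : Commute y a)
    (h2 : Commute y f) : y = 1 := by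
  have hbr : a * f * a = f * a * f := braid h ha hf fun k => hn k.symm
  rcases pair_closure h ha hf hn hy with rfl | rfl | rfl | rfl | rfl | rfl
  · rfl
  · exact absurd h2.symm hn
  · exact absurd h1 hn
  · refine absurd ?_ hn
    have e : a * f * a = f := by rw [h1.eq, mul_self_mul h ha]
    show f * a = a * f
    conv_lhs => rw [← e]
    rw [mul_assoc, mul_self h ha, mul_one]
  · refine absurd ?_ hn
    have e : f * a * f = a := by rw [h2.eq, mul_self_mul h hf]
    have : a = a * f * a := by rw [hbr, e]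
    show f * a = a * f
    have e2 : 1 = f * a := by
      have k := congrArg (fun t => a * t) this
      simpa only [mul_self h ha, mul_assoc, mul_self_mul h ha] using k
    exact absurd (Commute.refl a) (by
      have ef : f = a := by rw [← inv_eq h ha]; exact eq_inv_of_mul_eq_one_left e2.symm
      exact fun _ => hn (ef ▸ Commute.refl a))
  · refine absurd ?_ hn
    have e := h1.eq
    rw [mul_assoc (a * f) a a, mul_self h ha, mul_one] at e
    show f * a = a * f
    rw [e, mul_assoc a f a, mul_self_mul h ha]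

variable (C : M22.Ctx D) (hN : Numbered D) {a x : G} (ha : a ∈ D) (S : Seven D a x)
include C hN ha S

theorem Seven.exists_normal : ∃ F H : Subgroup G, H = Subgroup.closure (fixed D x) ∧
    Nonempty (↥H ≃* Equiv.Perm (Fin 3)) ∧ Nat.card ↥F = 42 ∧ x ∈ F ∧
    F ⊓ Subgroup.centralizer ({x} : Set G) = Subgroup.zpowers x ∧ F ⊓ H = ⊥ ∧
    (∀ p ∈ F, ∀ q ∈ H, p * q = q * p) ∧ F ⊔ H = nor x := by
  classical
  haveI : Fact (Nat.Prime 7) := ⟨by norm_num⟩
  have h := C.set.cls
  obtain ⟨f, hf, hA2, hA⟩ := S.apart_pair C hN ha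
  have hfix := S.fixed_eq C hN ha hA
  have hfn : ¬ Commute f a := hf.1.2
  set H := Subgroup.closure (fixed D x) with hH
  have hH2 : H = Subgroup.closure ({a, f} : Set G) := by
    rw [hH, hfix]
    refine le_antisymm ((Subgroup.closure_le _).mpr ?_) (Subgroup.closure_mono ?_)
    · have k1 : a ∈ Subgroup.closure ({a, f} : Set G) := Subgroup.subset_closure (Or.inl rfl)
      have k2 : f ∈ Subgroup.closure ({a, f} : Set G) := Subgroup.subset_closure (Or.inr rfl)
      rintro y (rfl | rfl | rfl)
      exacts [k1, k2, mul_mem (mul_mem k1 k2) k1]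
    · rintro y (rfl | rfl)
      exacts [Or.inl rfl, Or.inr (Or.inl rfl)]
  have hHnor : H ≤ nor x := (Subgroup.closure_le _).mpr fun d hd => nor_of_commute hd.2
  -- the symmetric group
  letI : MulAction ↥H ↥(fixed D x) :=
    { smul := fun g d => ⟨(g : G) * d * (g : G)⁻¹, conj_mem h _ d.2.1, comm_nor (hHnor g.2) d.2.2⟩
      one_smul := fun d => Subtype.ext (by show (1 : G) * d * (1 : G)⁻¹ = d; group)
      mul_smul := fun g k d => Subtype.ext (by
        show ((g : G) * k) * d * ((g : G) * k)⁻¹ = g * (k * d * (k : G)⁻¹) * (g : G)⁻¹; group) }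
  have hcard3 : Nat.card ↥(fixed D x) = 3 := by
    rw [Nat.card_coe_set_eq, fixed_count C hN ha S.xa, S.perp0, Set.ncard_empty, hA2]
  let θ : ↥H →* Equiv.Perm (Fin 3) :=
    (Finite.equivFinOfCardEq hcard3).permCongrHom.toMonoidHom.comp (MulAction.toPermHom ↥H ↥(fixed D x))
  have hθ : Function.Injective θ := by
    refine (Finite.equivFinOfCardEq hcard3).permCongrHom.injective.comp ?_
    rw [← MonoidHom.ker_eq_bot_iff, Subgroup.eq_bot_iff_forall]
    rintro ⟨g, hg⟩ hk
    rw [MonoidHom.mem_ker] at hk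
    have key : ∀ d, d ∈ fixed D x → Commute g d := fun d hd => by
      have e : g * d * g⁻¹ = d := congrArg (fun p : Equiv.Perm ↥(fixed D x) => ((p ⟨d, hd⟩) : G)) hk
      exact mul_inv_eq_iff_eq_mul.mp e
    exact Subtype.ext (pair_centre h.1 ha hf.1.1 hfn (hH2 ▸ hg) (key a ⟨ha, S.xa⟩) (key f ⟨hf.1.1, hf.2⟩))
  have haH : a ∈ H := Subgroup.subset_closure ⟨ha, S.xa⟩
  have hfH : f ∈ H := Subgroup.subset_closure ⟨hf.1.1, hf.2⟩
  have h6 : Nat.card ↥H = 6 := by
    have hle := Nat.card_le_card_of_injective θ hθ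
    rw [Nat.card_perm, Nat.card_fin] at hle
    refine le_antisymm hle (Nat.le_of_dvd Nat.card_pos
      (Nat.Coprime.mul_dvd_of_dvd_of_dvd (by norm_num : Nat.Coprime 2 3) ?_ ?_))
    · rw [← h.1.1 a ha, ← Subgroup.orderOf_mk a haH]
      exact orderOf_dvd_natCard _
    · haveI : Fact (Nat.Prime 3) := ⟨by norm_num⟩
      have e3 : orderOf (a * f) = 3 := by
        refine orderOf_eq_prime ?_ fun e => hfn ?_
        · have hbr : a * f * a = f * a * f := braid h.1 ha hf.1.1 fun k => hfn k.symm
          rw [show (a * f) ^ 3 = a * f * a * (f * a * f) by simp [pow_succ, mul_assoc], ← hbr]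
          simp [mul_assoc, mul_self_mul h.1 ha, mul_self_mul h.1 hf.1.1, mul_self h.1 ha]
        · rw [← inv_eq h.1 hf.1.1, ← eq_inv_of_mul_eq_one_left e]
      rw [← e3, ← Subgroup.orderOf_mk (a * f) (mul_mem haH hfH)]
      exact orderOf_dvd_natCard _
  have hiso : Nonempty (↥H ≃* Equiv.Perm (Fin 3)) := by
    refine ⟨MulEquiv.ofBijective θ ?_⟩
    rw [Nat.bijective_iff_injective_and_card]
    exact ⟨hθ, by rw [h6, Nat.card_perm, Nat.card_fin]; rfl⟩
  -- the complement
  set N := cen a ⊓ nor x with hNdef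
  set F := fix N f with hF
  have ho : orb N f = fixedApart D x a := by
    ext y
    constructor
    · rintro ⟨g, hg, rfl⟩
      refine ⟨⟨conj_mem h g hf.1.1, fun k => hfn ?_⟩, comm_nor hg.2 hf.2⟩
      rw [← conj_fix (mem_cen.mp hg.1), commute_conj_iff] at k
      exact k
    · intro hy
      exact move_apart C hN seven_sq ha S.ox S.xa hf hy
  have cardF : Nat.card ↥F = 42 := by
    have k := card_orb N f
    rw [ho, hA2, ← hF, hNdef, S.cardN] at k
    omega
  have memF : ∀ {g}, g ∈ F ↔ (Commute g a ∧ g ∈ nor x) ∧ Commute g f := fun {g} => by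
    rw [hF, mem_fix, hNdef, Subgroup.mem_inf, mem_cen]
  have hxF : x ∈ F := memF.mpr ⟨⟨S.xa.symm, nor_of_commute (Commute.refl x)⟩, hf.2.symm⟩
  have hcomm : ∀ p ∈ F, ∀ q ∈ H, p * q = q * p := by
    intro p hp q hq
    obtain ⟨⟨pa, -⟩, pf⟩ := memF.mp hp
    rw [hH2] at hq
    have : Subgroup.closure ({a, f} : Set G) ≤ Subgroup.centralizer ({p} : Set G) := by
      rw [Subgroup.closure_le]
      rintro y (rfl | rfl)
      exacts [Subgroup.mem_centralizer_singleton_iff.mpr pa.symm.eq,
        Subgroup.mem_centralizer_singleton_iff.mpr pf.symm.eq]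
    exact (Subgroup.mem_centralizer_singleton_iff.mp (this hq)).symm
  have htriv : F ⊓ H = ⊥ := by
    rw [Subgroup.eq_bot_iff_forall]
    rintro y ⟨hyF, hyH⟩
    obtain ⟨⟨pa, -⟩, pf⟩ := memF.mp hyF
    exact pair_centre h.1 ha hf.1.1 hfn (hH2 ▸ hyH) pa pf
  have cardNor : Nat.card ↥(nor x) = 252 := by
    have k := card_orb (nor x) a
    have e : fix (nor x) a = N := inf_comm _ _
    rw [orb_nor C hN seven_sq ha S.ox S.xa, e, hNdef, S.cardN, ← Nat.card_coe_set_eq, hcard3] at k
    omega
  have hFnor : F ≤ nor x := fun g hg => (memF.mp hg).1.2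
  refine ⟨F, H, rfl, hiso, cardF, hxF, ?_, htriv, hcomm, ?_⟩
  · set Q := F ⊓ Subgroup.centralizer ({x} : Set G) with hQ
    have hxQ : x ∈ Q := Subgroup.mem_inf.mpr ⟨hxF, Subgroup.mem_centralizer_singleton_iff.mpr rfl⟩
    have hQC : Q ≤ fix (cen a) x := fun g hg => by
      obtain ⟨g1, g2⟩ := Subgroup.mem_inf.mp hg
      exact mem_fix.mpr ⟨mem_cen.mpr (memF.mp g1).1.1, Subgroup.mem_centralizer_singleton_iff.mp g2⟩
    have hd : Nat.card ↥Q ∣ 14 := S.cardC ▸ Subgroup.card_dvd_of_le hQC
    refine (Subgroup.eq_of_le_of_card_ge (Subgroup.zpowers_le.mpr hxQ) ?_).symm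
    rw [Nat.card_zpowers, S.ox]
    by_contra hlt
    have e14 : Nat.card ↥Q = 14 := by
      have : ∀ m ∈ Nat.divisors 14, ¬ m ≤ 7 → m = 14 := by decide +kernel
      exact this _ (Nat.mem_divisors.mpr ⟨hd, by norm_num⟩) hlt
    have eQ := Subgroup.eq_of_le_of_card_ge hQC (by rw [S.cardC, e14])
    have haQ : a ∈ Q := by
      rw [eQ]
      exact mem_fix.mpr ⟨mem_cen.mpr (Commute.refl a), S.xa⟩
    exact hfn (memF.mp (Subgroup.mem_inf.mp haQ).1).2.symm
  · refine Subgroup.eq_of_le_of_card_ge (sup_le hFnor hHnor) ?_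
    rw [cardNor, show 252 = Nat.card ↥F * Nat.card ↥H by rw [cardF, h6], ← Nat.card_prod]
    refine Nat.card_le_card_of_injective
      (fun p : ↥F × ↥H => (⟨p.1 * p.2, Subgroup.mul_mem_sup p.1.2 p.2.2⟩ : ↥(F ⊔ H))) ?_
    exact fun p q e => Subgroup.mul_injective_of_disjoint (disjoint_iff.mpr htriv) (congrArg Subtype.val e)

end Cfsg.Agent.Grp.M22Local
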