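import Cfsg.Agent.Lib.Grp.M22Local.Seven
import Cfsg.Agent.Lib.Grp.M22Local.FiveFixed

/-! The normaliser of a subgroup of order seven in a group of type M(22). -/

set_option autoImplicit false
set_option linter.style.haveILetI false
set_option linter.unusedSectionVars false

namespace Cfsg.Agent.Grp.M22Local

open Cfsg Cfsg.Agent.Spor.ThreeTrans Cfsg.Agent.Block.FischerTypes

variable {G : Type*} [Group G] [Finite G] {D : Set G}

variable (C : M22.Ctx D) (hN : Numbered D)
include C hN

theorem seven_conj {X Y : Subgroup G} (hX : Nat.card ↥X = 7) (hY : Nat.card ↥Y = 7) :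
    ∃ g : G, X.map (MulAut.conj g).toMonoidHom = Y := by
  haveI : Fact (Nat.Prime 7) := ⟨by norm_num⟩
  obtain ⟨g, -, hg⟩ := conj_exact (⊤ : Subgroup G)
    (by rw [Subgroup.card_top, M22.card_group C hN]; norm_num) hX hY le_top le_top
  exact ⟨g, hg⟩

theorem seven_at {X : Subgroup G} (hX : Nat.card ↥X = 7) :
    ∃ d x, d ∈ D ∧ X = Subgroup.zpowers x ∧ Seven D d x := by
  have h := C.set.cls
  obtain ⟨a, ha⟩ := Set.nonempty_of_ncard_ne_zero (s := D) (by rw [M22.ncard_eq C hN]; norm_num)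
  obtain ⟨M⟩ := hN a ha
  have S := exists_seven h M ha (card_cen C hN ha)
  set x := el M w7 ^ (7 + 1) with hx
  obtain ⟨g, hg⟩ := seven_conj C hN (X := Subgroup.zpowers x) (by rw [Nat.card_zpowers, S.ox]) hX
  rw [map_zpowers] at hg
  refine ⟨g * a * g⁻¹, g * x * g⁻¹, conj_mem h g ha, hg.symm, ?_⟩
  haveI : Fact (Nat.Prime 7) := ⟨by norm_num⟩
  have hgd : g * a * g⁻¹ ∈ D := conj_mem h g ha
  obtain ⟨M'⟩ := hN _ hgd
  have S' := exists_seven h M' hgd (card_cen C hN hgd)
  obtain ⟨l, hl, e⟩ := conj_exact (cen (g * a * g⁻¹)) (by rw [card_cen C hN hgd]; exact seven_sq)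
    (X := Subgroup.zpowers (el M' w7 ^ (7 + 1))) (Y := Subgroup.zpowers (g * x * g⁻¹))
    (by rw [Nat.card_zpowers, S'.ox]) (by rw [hg, hX])
    (Subgroup.zpowers_le.mpr (mem_cen.mpr S'.xa.symm))
    (Subgroup.zpowers_le.mpr (mem_cen.mpr ((commute_conj_iff g x a).mpr S.xa.symm)))
  have ox' : orderOf (g * x * g⁻¹) = 7 := (MulEquiv.orderOf_eq (MulAut.conj g) x).trans S.ox
  have xa' : Commute (g * a * g⁻¹) (g * x * g⁻¹) := (commute_conj_iff g a x).mpr S.xa
  refine ⟨ox', xa', ?_, ?_, ?_⟩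
  · rw [Set.eq_empty_iff_forall_notMem]
    rintro d ⟨hd, hdx⟩
    have k : g⁻¹ * d * g ∈ fixedPerp D x a := by
      refine ⟨?_, ?_⟩
      · rw [← conj_mem_perp h g a]
        simpa [mul_assoc] using hd
      · have := (commute_conj_iff g⁻¹ d (g * x * g⁻¹)).mpr hdx
        simpa [mul_assoc] using this
    rw [S.perp0] at k
    exact k
  · rw [← S.cardC]
    have e1 : fix (cen (g * a * g⁻¹)) (g * x * g⁻¹) = (fix (cen a) x).map (MulAut.conj g).toMonoidHom := by
      ext t
      rw [mem_fix, mem_cen]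
      constructor
      · rintro ⟨t1, t2⟩
        refine ⟨g⁻¹ * t * g, ?_, by simp [mul_assoc]⟩
        show g⁻¹ * t * g ∈ fix (cen a) x
        rw [mem_fix, mem_cen]
        exact ⟨(commute_conj_iff g _ a).mp (by simpa [mul_assoc] using t1),
          (commute_conj_iff g _ x).mp (by simpa [mul_assoc] using t2)⟩
      · rintro ⟨u, hu, rfl⟩
        obtain ⟨u1, u2⟩ := mem_fix.mp hu
        exact ⟨(commute_conj_iff g u a).mpr (mem_cen.mp u1), (commute_conj_iff g u x).mpr u2⟩
    rw [e1]
    exact (Nat.card_congr ((fix (cen a) x).equivMapOfInjective _ (MulAut.conj g).injective).toEquiv).symm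
  · rw [← S.cardN]
    have e1 : cen (g * a * g⁻¹) ⊓ nor (g * x * g⁻¹) = (cen a ⊓ nor x).map (MulAut.conj g).toMonoidHom := by
      rw [Subgroup.map_inf _ _ _ (MulAut.conj g).injective]
      congr 1
      · ext t
        rw [mem_cen]
        constructor
        · intro t1
          refine ⟨g⁻¹ * t * g, ?_, by simp [mul_assoc]⟩
          exact mem_cen.mpr ((commute_conj_iff g _ a).mp (by simpa [mul_assoc] using t1))
        · rintro ⟨u, hu, rfl⟩
          exact (commute_conj_iff g u a).mpr (mem_cen.mp hu)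
      · rw [nor, ← map_zpowers, ← Subgroup.map_equiv_normalizer_eq]
    rw [e1]
    exact (Nat.card_congr ((cen a ⊓ nor x).equivMapOfInjective _ (MulAut.conj g).injective).toEquiv).symm

variable {a x : G} (ha : a ∈ D) (S : Seven D a x)
include ha S

theorem Seven.apart_pair : ∃ f, f ∈ fixedApart D x a ∧ (fixedApart D x a).ncard = 2 ∧
    fixedApart D x a = {f, a * f * a} := by
  classical
  haveI : Fact (Nat.Prime 7) := ⟨by norm_num⟩
  have h := C.set.cls
  have hA : (fixedApart D x a).ncard % 7 = 2 := by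
    have k := fixed_modEq S.ox D fun g d hd => conj_mem h g hd
    rw [show {d | d ∈ D ∧ Commute d x} = fixed D x from rfl, M22.ncard_eq C hN, fixed_count C hN ha S.xa,
      S.perp0, Set.ncard_empty, Nat.ModEq] at k
    omega
  obtain ⟨f, hf⟩ := Set.nonempty_of_ncard_ne_zero (s := fixedApart D x a) (by omega)
  have ho : orb (cen a ⊓ nor x) f = fixedApart D x a := by
    ext y
    constructor
    · rintro ⟨g, hg, rfl⟩
      refine ⟨⟨conj_mem h g hf.1.1, fun k => hf.1.2 ?_⟩, comm_nor hg.2 hf.2⟩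
      rw [← conj_fix (mem_cen.mp hg.1), commute_conj_iff] at k
      exact k
    · intro hy
      exact move_apart C hN seven_sq ha S.ox S.xa hf hy
  have hd : (fixedApart D x a).ncard ∣ 84 := ho ▸ S.cardN ▸ orb_ncard_dvd _ f
  have hA2 : (fixedApart D x a).ncard = 2 := by
    have : ∀ m ∈ Nat.divisors 84, m % 7 = 2 → m = 2 := by decide +kernel
    exact this _ (Nat.mem_divisors.mpr ⟨hd, by norm_num⟩) hA
  refine ⟨f, hf, hA2, (Set.eq_of_subset_of_ncard_le ?_ ?_ (Set.toFinite _)).symm⟩
  · rintro y (rfl | rfl)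
    · exact hf
    · rw [← ho]
      exact ⟨a, ⟨mem_cen.mpr (Commute.refl a), nor_of_commute S.xa⟩, by rw [inv_eq h.1 ha]⟩
  · rw [hA2, Set.ncard_pair]
    intro e
    refine hf.1.2 ?_
    show f * a = a * f
    conv_lhs => rw [e]
    rw [mul_assoc, mul_self h.1 ha, mul_one]

theorem Seven.fixed_eq {f : G} (hf : fixedApart D x a = {f, a * f * a}) :
    fixed D x = {a, f, a * f * a} := by
  ext d
  constructor
  · intro hd
    by_cases hc : Commute a d
    · by_cases he : d = a
      · exact Or.inl he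
      · exfalso
        have k : d ∈ fixedPerp D x a := ⟨⟨hd.1, he, hc⟩, hd.2⟩
        rw [S.perp0] at k
        exact k
    · have k : d ∈ fixedApart D x a := ⟨⟨hd.1, fun k => hc k.symm⟩, hd.2⟩
      rw [hf] at k
      exact Or.inr k
  · intro hd
    rcases hd with rfl | hd
    · exact ⟨ha, S.xa⟩
    · have k : d ∈ fixedApart D x a := by rw [hf]; exact hd
      exact ⟨k.1.1, k.2⟩

end Cfsg.Agent.Grp.M22Local
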